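import Cfsg.Agent.D4Square.Reach
import Cfsg.Agent.Chev.Twist.D4Main

/-!
A Gauss decomposition with prescribed torus part in ³D₄.
-/

set_option autoImplicit false
set_option maxRecDepth 100000
set_option maxHeartbeats 1000000

namespace Cfsg.Agent.D4Square

open Cfsg.Lie Cfsg.Agent.Chev
open scoped MatrixGroups

universe u

/-- The value of a product of reflections of orbits. -/
def wv (ws : List (Fin 2)) (r : ℕ) : ℕ :=
  ws.foldr (fun a s => (orbNats d4_031_π d4Base d4Len a).foldr (fun i s => chevD4.reflectRoot i s) s) r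

/-- Reduced words for the twelve elements of the Weyl group. -/
def words : List (List (Fin 2)) :=
  [[], [0], [1], [0, 1], [1, 0], [0, 1, 0], [1, 0, 1], [0, 1, 0, 1], [1, 0, 1, 0], [0, 1, 0, 1, 0],
    [1, 0, 1, 0, 1], [0, 1, 0, 1, 0, 1]]

theorem words_closed : ∀ w ∈ words, ∀ i : Fin 2, ∃ w' ∈ words,
    ∀ r : Fin chevD4.nroots, wv (i :: w) r = wv w' r := by decide +kernel

theorem tail_pos : ∀ w ∈ words, ∀ i : Fin 2, w.head? = some i →
    w.tail ∈ words ∧ half chevD4 ≤ wv w.tail.reverse (chevD4.simple (d4Base i)) := by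
  decide +kernel

theorem longest_neg : ∀ r : Fin chevD4.nroots, wv [0, 1, 0, 1, 0, 1] r = chevD4.neg r := by
  decide +kernel

theorem prepend_pos : ∀ i j : Fin 2, i ≠ j → [j, i, j] ∈ words ∧
    half chevD4 ≤ wv [j, i, j] (chevD4.neg (chevD4.simple (d4Base j))) := by decide +kernel

variable {K : Type u} [Field K] (φ : K →+* K) (hφ : ∀ t, (φ ^ 3) t = t)

local notation "TT" => twistD4 K φ hφ

theorem pW_val' (ws : List (Fin 2)) (r : Fin chevD4.nroots) :
    (((TT).pW ws r : Fin chevD4.nroots) : ℕ) = wv ws r := (TT).pW_foldr ws r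

theorem pW_congr {ws ws' : List (Fin 2)} (h : ∀ r : Fin chevD4.nroots, wv ws r = wv ws' r) :
    (TT).pW ws = (TT).pW ws' :=
  Equiv.ext fun r => Fin.ext (by rw [pW_val', pW_val', h r])

/-- The longest element. -/
noncomputable def opp : (TT).Opp where
  ws := ([0, 1, 0, 1, 0, 1] : List (Fin 2))
  neg r := Fin.ext ((pW_val' φ hφ _ r).trans (longest_neg r))

theorem pos_of_tail {w : List (Fin 2)} {i : Fin 2}
    (h : half chevD4 ≤ wv w.reverse (chevD4.simple (d4Base i))) :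
    half chevD4 ≤ (((TT).pW w)⁻¹ (sRoot (TT).hF ((TT).base i)) : ℕ) := by
  have e := (TT).pW_reverse w
  rw [e]
  exact le_of_le_of_eq h (pW_val' φ hφ w.reverse (sRoot (TT).hF ((TT).base i))).symm

theorem exists_word : ∀ ws : List (Fin 2), ∃ w ∈ words, (TT).pW ws = (TT).pW w
  | [] => ⟨[], by decide +kernel, rfl⟩
  | i :: ws => by
    obtain ⟨w, hw, e⟩ := exists_word ws
    obtain ⟨w', hw', h⟩ := words_closed w hw i
    refine ⟨w', hw', ?_⟩
    exact ((TT).pW_cons_congr i e).trans (pW_congr φ hφ h)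

theorem reach_all : ∀ w ∈ words, 2 ≤ w.length → ∀ t ∈ (TT).T1, (TT).Reach (opp φ hφ) w t := by
  intro w
  induction w with
  | nil => intro _ h; simp at h
  | cons i w ih =>
    intro hw h2
    obtain ⟨ht, hp⟩ := tail_pos (i :: w) hw i rfl
    rcases w with _ | ⟨j, _ | ⟨k, l⟩⟩
    · simp at h2
    · refine (TT).reach_pair _ (i := i) (j := j) ?_ ?_ (pos_of_tail φ hφ hp)
      · exact (by decide +kernel : ∀ i j : Fin 2, [i, j] ∈ words → ∀ b, b = i ∨ b = j) i j hw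
      · exact (by decide +kernel : ∀ i j : Fin 2, [i, j] ∈ words → i ≠ j) i j hw
    · exact (TT).reach_all_cons _ (ih ht (by simp)) (pos_of_tail φ hφ hp)

theorem exists_cell {g : GL chevD4.Idx K} (hg : g ∈ (TT).G1) :
    ∃ w ∈ words, (TT).BCell w g ∧ (g ∉ (TT).B1 → w ≠ []) := by
  obtain ⟨b, hb, ws, x, hx, rfl⟩ := (TT).exists_nf hg
  obtain ⟨w, hw, e⟩ := exists_word φ hφ ws
  have hxB : x ∈ (TT).B1 := Subgroup.mem_sup_left ⟨closure_uGens_le _ _ hx.1, hx.2⟩
  refine ⟨w, hw, ((TT).cell_of_bruhat hb hxB ws).congr e, fun hn h => hn ?_⟩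
  subst h
  exact Subgroup.mul_mem _ (Subgroup.mul_mem _ hb
    (Subgroup.mem_sup_right ((TT).nW_mem_T1 ws e))) hxB

theorem long_cell {g : GL chevD4.Idx K} (hg : g ∈ (TT).G1) (hne : g ≠ 1) :
    ∃ w ∈ words, 2 ≤ w.length ∧ (TT).BCell w g := by
  obtain ⟨g', hg', hcj, hnb⟩ : ∃ g' ∈ (TT).G1, (TT).Cj g g' ∧ g' ∉ (TT).B1 := by
    by_contra hno
    push Not at hno
    set C := (((chevD4.borelSubgroup K) ⊓ (TT).G1).subgroupOf (TT).G1)
    have hmem : (⟨g, hg⟩ : ↥(TT).G1) ∈ C.normalCore := by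
      intro a
      refine Subgroup.mem_subgroupOf.2 ?_
      rw [(TT).G1_inf_borel]
      exact hno _ (Subgroup.mul_mem _ (Subgroup.mul_mem _ a.2 hg) (a⁻¹).2) ⟨a, a.2, rfl⟩
    rw [(TT).core_trivial, Subgroup.mem_bot] at hmem
    exact hne (congrArg Subtype.val hmem)
  obtain ⟨w, hw, hc, hw0⟩ := exists_cell φ hφ hg'
  specialize hw0 hnb
  by_cases h2 : 2 ≤ w.length
  · exact ⟨w, hw, h2, hc.of_cj hcj⟩
  obtain ⟨i, rfl⟩ : ∃ i, w = [i] := by
    rcases w with _ | ⟨i, _ | ⟨k, l⟩⟩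
    · exact absurd rfl hw0
    · exact ⟨i, rfl⟩
    · simp at h2
  obtain ⟨j, hj⟩ : ∃ j : Fin 2, i ≠ j :=
    (by decide +kernel : ∀ i : Fin 2, ∃ j : Fin 2, i ≠ j) i
  obtain ⟨hjw, hp⟩ := prepend_pos i j hj
  refine ⟨[j, i, j], hjw, by simp, (Twist.BCell.prolong hc ?_).of_cj hcj⟩
  exact le_of_le_of_eq hp (pW_val' φ hφ [j, i, j] (negF (TT).hF (sRoot (TT).hF ((TT).base j)))).symm

/-- Every element other than `1` is conjugate to `u * t * v` with any given torus part. -/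
theorem gauss {g : GL chevD4.Idx K} (hg : g ∈ (TT).G1) (hne : g ≠ 1) {t : GL chevD4.Idx K}
    (ht : t ∈ (TT).T1) :
    ∃ u ∈ (TT).oppU (opp φ hφ), ∃ v ∈ (TT).U1, (TT).Cj g (u * t * v) := by
  obtain ⟨w, hw, h2, hc⟩ := long_cell φ hφ hg hne
  exact (TT).gauss_of_reach _ (reach_all φ hφ w hw h2) hc ht

end Cfsg.Agent.D4Square
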