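import Cfsg.Agent.D4Square.Torus
import Cfsg.Agent.Chev.RankOne
import Cfsg.Agent.Chev.TopRoot
import Mathlib.Data.ZMod.Basic

/-!
The rank one group of the long fundamental root inside ³D₄ and its action on the two radicals.
-/

set_option autoImplicit false
set_option maxRecDepth 100000
set_option maxHeartbeats 1000000

namespace Cfsg.Agent.D4Square

open Cfsg.Lie Cfsg.Agent.Chev Matrix
open scoped MatrixGroups

universe u

theorem lt_nroots {r : ℕ} (h : r < 24) : r < chevD4.nroots :=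
  lt_of_lt_of_eq h (by decide +kernel)

/-- The long fundamental root and its negative. -/
theorem mid_facts : chevD4.simple (d4Base 1) = 14 ∧ chevD4.neg 14 = 9 ∧ half chevD4 = 12 ∧
    chevD4.nroots = 24 := by decide +kernel

/-- The upper unitriangular element. -/
def upS {R : Type*} [CommRing R] (t : R) : SpecialLinearGroup (Fin 2) R :=
  ⟨!![1, t; 0, 1], by simp [det_fin_two]⟩

/-- The lower unitriangular element. -/
def loS {R : Type*} [CommRing R] (t : R) : SpecialLinearGroup (Fin 2) R :=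
  ⟨!![1, 0; t, 1], by simp [det_fin_two]⟩

variable {K : Type u} [Field K]

local notation "GK" => GL chevD4.Idx K

/-- The homomorphism of the long fundamental root. -/
noncomputable def phi : SpecialLinearGroup (Fin 2) K →* GK :=
  (hasSL2 facts_chevD4.{u} (lt_nroots (r := 14) (by norm_num)) (F := K)).choose

theorem phi_up (t : K) : phi (upS t) = xG facts_chevD4.{u} 14 t :=
  (hasSL2 facts_chevD4.{u} (lt_nroots (r := 14) (by norm_num)) (F := K)).choose_spec.1 _ _ rfl

theorem phi_lo (t : K) : phi (loS t) = xG facts_chevD4.{u} 9 t := by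
  exact ((hasSL2 facts_chevD4.{u} (lt_nroots (r := 14) (by norm_num)) (F := K)).choose_spec.2
    (loS t) t rfl).trans (congrArg (fun r => xG facts_chevD4.{u} r t) mid_facts.2.1)

variable (φ : K →+* K) (hφ : ∀ t, (φ ^ 3) t = t)

local notation "TT" => twistD4 K φ hφ
local notation "OO" => opp φ hφ

theorem y_mid_true (t : K) : (TT).y true (1 : Fin 2) t = xG facts_chevD4.{u} 14 t := by
  refine ((TT).y_single (a := (1 : Fin 2)) rfl t).trans ?_
  exact congrArg (fun r => xG facts_chevD4.{u} r t) mid_facts.1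

theorem y_mid_false (t : K) : (TT).y false (1 : Fin 2) t = xG facts_chevD4.{u} 9 t := by
  show ((List.range (d4Len 1)).map fun j => xG facts_chevD4.{u}
    ((TT).rt false (1 : Fin 2) j : ℕ) ((φ ^ j) t)).prod = _
  rw [show d4Len (1 : Fin 2) = 1 from rfl]
  simp only [List.range_one, List.map_cons, List.map_nil, List.prod_cons, List.prod_nil, mul_one,
    pow_zero]
  exact congrArg (fun r => xG facts_chevD4.{u} r t)
    ((congrArg chevD4.neg mid_facts.1).trans mid_facts.2.1)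

theorem par_mid {t : K} (h : φ t = t) : (TT).Par (1 : Fin 2) t := by
  show (φ ^ d4Len 1) t = t
  rw [show d4Len (1 : Fin 2) = 1 from rfl, pow_one, h]

/-- The elements of the group normalising both radicals of the long fundamental root. -/
noncomputable def HH : Subgroup GK :=
  (TT).G1 ⊓ (Subgroup.normalizer ((TT).Rd (1 : Fin 2) : Set GK) ⊓
    Subgroup.normalizer ((TT).Rn OO (1 : Fin 2) : Set GK))

theorem mem_HH {g : GK} (hg : g ∈ (TT).G1)
    (h1 : ∀ w ∈ (TT).Rd (1 : Fin 2), g * w * g⁻¹ ∈ (TT).Rd (1 : Fin 2))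
    (h1' : ∀ w ∈ (TT).Rd (1 : Fin 2), g⁻¹ * w * g ∈ (TT).Rd (1 : Fin 2))
    (h2 : ∀ w ∈ (TT).Rn OO (1 : Fin 2), g * w * g⁻¹ ∈ (TT).Rn OO (1 : Fin 2))
    (h2' : ∀ w ∈ (TT).Rn OO (1 : Fin 2), g⁻¹ * w * g ∈ (TT).Rn OO (1 : Fin 2)) :
    g ∈ HH φ hφ := by
  refine ⟨hg, Subgroup.mem_normalizer_iff.2 fun w => ⟨h1 w, fun h => ?_⟩,
    Subgroup.mem_normalizer_iff.2 fun w => ⟨h2 w, fun h => ?_⟩⟩
  · have := h1' _ h
    rwa [show g⁻¹ * (g * w * g⁻¹) * g = w by group] at this
  · have := h2' _ h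
    rwa [show g⁻¹ * (g * w * g⁻¹) * g = w by group] at this

theorem y_mem_HH (s : Bool) {t : K} (ht : (TT).Par (1 : Fin 2) t) :
    (TT).y s (1 : Fin 2) t ∈ HH φ hφ := by
  refine mem_HH φ hφ ((TT).y_mem_G1 ht s) (fun w hw => (TT).y_Rd s ht hw) (fun w hw => ?_)
    (fun w hw => (TT).y_Rn _ s ht hw) (fun w hw => ?_)
  · have := (TT).y_Rd s ((TT).par_neg ht) hw
    rwa [← (TT).y_inv s (1 : Fin 2) t, inv_inv] at this
  · have := (TT).y_Rn OO s ((TT).par_neg ht) hw
    rwa [← (TT).y_inv s (1 : Fin 2) t, inv_inv] at this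

theorem torus_mem_HH {z : GK} (hz : z ∈ (TT).T1) : z ∈ HH φ hφ := by
  refine mem_HH φ hφ ((TT).T1_le_G1 hz) (fun w hw => (TT).torus_Rd hz hw) (fun w hw => ?_)
    (fun w hw => (TT).torus_Rn _ hz hw) (fun w hw => ?_)
  · have := (TT).torus_Rd (Subgroup.inv_mem _ hz) hw
    rwa [inv_inv] at this
  · have := (TT).torus_Rn OO (Subgroup.inv_mem _ hz) hw
    rwa [inv_inv] at this

/-- Nothing but `1` in either radical commutes with `x`. -/
def Adm (x : GK) : Prop :=
  x ∈ HH φ hφ ∧ (∀ w ∈ (TT).Rd (1 : Fin 2), x * w = w * x → w = 1) ∧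
    ∀ w ∈ (TT).Rn OO (1 : Fin 2), x * w = w * x → w = 1

theorem Adm.conj {x : GK} (h : Adm φ hφ x) {s : GK} (hs : s ∈ HH φ hφ) :
    Adm φ hφ (s * x * s⁻¹) := by
  refine ⟨Subgroup.mul_mem _ (Subgroup.mul_mem _ hs h.1) (Subgroup.inv_mem _ hs), ?_, ?_⟩
  · intro w hw e
    have hw' := (Subgroup.mem_normalizer_iff''.1 hs.2.1 w).1 hw
    have h1 := h.2.1 _ hw' (by
      calc x * (s⁻¹ * w * s) = s⁻¹ * (s * x * s⁻¹ * w) * s := by group
        _ = _ := by rw [e]; group)
    calc w = s * (s⁻¹ * w * s) * s⁻¹ := by group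
      _ = 1 := by rw [h1]; group
  · intro w hw e
    have hw' := (Subgroup.mem_normalizer_iff''.1 hs.2.2 w).1 hw
    have h1 := h.2.2 _ hw' (by
      calc x * (s⁻¹ * w * s) = s⁻¹ * (s * x * s⁻¹ * w) * s := by group
        _ = _ := by rw [e]; group)
    calc w = s * (s⁻¹ * w * s) * s⁻¹ := by group
      _ = 1 := by rw [h1]; group

/-- An admissible element conjugate to `x`. -/
def Mem (x y : GK) : Prop := Adm φ hφ y ∧ ∃ e ∈ (TT).G1, y = e * x * e⁻¹

theorem Mem.conj {x y : GK} (h : Mem φ hφ x y) {s : GK} (hs : s ∈ HH φ hφ) :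
    Mem φ hφ x (s * y * s⁻¹) := by
  obtain ⟨ha, e, he, rfl⟩ := h
  exact ⟨ha.conj φ hφ hs, s * e, Subgroup.mul_mem _ hs.1 he, by group⟩

theorem product [Finite K] {x Y1 Y2 g u v : GK} (h1 : Mem φ hφ x Y1) (h2 : Mem φ hφ x Y2)
    (hu : u ∈ (TT).Rn OO (1 : Fin 2)) (hv : v ∈ (TT).Rd (1 : Fin 2))
    (hg : (TT).Cj g (u * (Y1 * Y2) * v)) :
    ∃ a ∈ (TT).G1, ∃ b ∈ (TT).G1, g = (a * x * a⁻¹) * (b * x * b⁻¹) := by
  obtain ⟨t1, e1, he1, heq1⟩ := h1
  obtain ⟨t2, e2, he2, heq2⟩ := h2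
  obtain ⟨w1, hw1, hw1'⟩ := twist_surj_left
    (fun w hw => (Subgroup.mem_normalizer_iff''.1 t1.1.2.2 w).1 hw) (fun w hw h => t1.2.2 w hw h) hu
  obtain ⟨w2, hw2, hw2'⟩ := twist_surj
    (fun w hw => (Subgroup.mem_normalizer_iff''.1 t2.1.2.1 w).1 hw) (fun w hw h => t2.2.1 w hw h) hv
  obtain ⟨e, he, heq⟩ := hg
  refine ⟨e⁻¹ * w1 * e1, Subgroup.mul_mem _ (Subgroup.mul_mem _ (Subgroup.inv_mem _ he)
      ((TT).oppU_le_G1 _ ((TT).Rn_le _ _ hw1))) he1,
    e⁻¹ * w2 * e2, Subgroup.mul_mem _ (Subgroup.mul_mem _ (Subgroup.inv_mem _ he)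
      ((TT).U1_le_G1 ((TT).Rd_le _ hw2))) he2, ?_⟩
  calc g = e⁻¹ * (e * g * e⁻¹) * e := by group
    _ = e⁻¹ * ((u * Y1) * (Y2 * v)) * e := by rw [heq]; group
    _ = _ := by rw [hw1', hw2', heq1, heq2]; group

/-- The middle part of `u * t * v`. -/
theorem middle {u v t : GK} (hu : u ∈ (TT).oppU OO) (hv : v ∈ (TT).U1) :
    ∃ u1 ∈ (TT).Rn OO (1 : Fin 2), ∃ v1 ∈ (TT).Rd (1 : Fin 2), ∃ c a : K, φ c = c ∧ φ a = a ∧
      u * t * v = u1 * (xG facts_chevD4.{u} 9 c * t * xG facts_chevD4.{u} 14 a) * v1 := by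
  obtain ⟨u1, hu1, c, hc, rfl⟩ := (TT).exists_split_V1 _ (1 : Fin 2) hu
  obtain ⟨r, hr, a, ha, rfl⟩ := (TT).exists_split_U1 (1 : Fin 2) hv
  have hv1 := (TT).y_true_Rd ((TT).par_neg ha) hr
  rw [← (TT).y_inv true (1 : Fin 2) a, inv_inv] at hv1
  have fix : ∀ {x : K}, (TT).Par (1 : Fin 2) x → φ x = x := fun {x} h => by
    have h' : (φ ^ d4Len 1) x = x := h
    rwa [show d4Len (1 : Fin 2) = 1 from rfl, pow_one] at h'
  refine ⟨u1, hu1, _, hv1, c, a, fix hc, fix ha, ?_⟩
  rw [← y_mid_false φ hφ, ← y_mid_true φ hφ]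
  group

/-! ### Elements of the radicals commuting with a torus element -/

theorem mem_Rd_root {r : ℕ} (h1 : 12 ≤ r) (h2 : r < 24) (h3 : r ≠ 14) (t : K) :
    xG facts_chevD4.{u} r t ∈ uPlus facts_chevD4.{u} ((TT).wA (1 : Fin 2)) := by
  refine Subgroup.subset_closure ⟨⟨r, lt_nroots h2⟩, t, le_of_eq_of_le mid_facts.2.2.1 h1, ?_, rfl⟩
  have key : ∀ r : Fin chevD4.nroots, 12 ≤ (r : ℕ) → (r : ℕ) ≠ 14 → half chevD4 ≤ wv [1] r := by
    decide +kernel
  have e := (congrArg (fun π : Equiv.Perm (Fin chevD4.nroots) => (π ⟨r, lt_nroots h2⟩ : ℕ))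
    ((TT).pW_singleton (1 : Fin 2))).symm.trans (pW_val' φ hφ [(1 : Fin 2)] ⟨r, lt_nroots h2⟩)
  exact le_of_le_of_eq (key ⟨r, lt_nroots h2⟩ h1 h3) e.symm

theorem supp_pos {d : Fin chevD4.rank → Kˣ} {Ls : List ℕ}
    (hd : ∀ r : Fin chevD4.nroots, 12 ≤ (r : ℕ) → (r : ℕ) ≠ 14 → (r : ℕ) ∉ Ls → chiU d (r : ℕ) ≠ 1)
    {w : GK} (hw : w ∈ (TT).Rd (1 : Fin 2)) (h : torusHom d * w = w * torusHom d) :
    ∃ t : ℕ → K, (∀ r, r ∉ Ls → t r = 0) ∧ w = prodFrom facts_chevD4.{u} 12 t := by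
  classical
  have hwU : w ∈ chevD4.posUnipotent K := ((TT).Rd_le _ hw).1
  rw [posUnipotent_eq facts_chevD4.{u}] at hwU
  obtain ⟨t, ht⟩ := exists_prodFrom facts_chevD4.{u} _ _ rfl le_rfl w hwU
  rw [ht, torusHom_prodFrom facts_chevD4.{u} d t _ _ rfl, mul_left_inj] at h
  rw [mid_facts.2.2.1] at ht h
  have hz : ∀ r : ℕ, 12 ≤ r → r < 24 → r ≠ 14 → r ∉ Ls → t r = 0 := by
    intro r h1 h2 h3 h4
    have e1 : (chiU d r : K) * t r = t r := prodFrom_inj facts_chevD4.{u} _ _ rfl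
      (le_of_eq mid_facts.2.2.1) h r h1 (lt_nroots h2)
    have hne : (chiU d r : K) - 1 ≠ 0 :=
      sub_ne_zero.2 fun e' => hd ⟨r, lt_nroots h2⟩ h1 h3 h4 (Units.ext e')
    exact (mul_eq_zero.1 (show ((chiU d r : K) - 1) * t r = 0 by
      rw [sub_mul, e1, one_mul, sub_self])).resolve_left hne
  have hn : chevD4.nroots = 24 := mid_facts.2.2.2
  have hsucc : ∀ k, k < 24 → prodFrom facts_chevD4.{u} k t =
      (xG facts_chevD4.{u} k (t k) : GK) * prodFrom facts_chevD4.{u} (k + 1) t := fun k hk =>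
    prodFrom_succ facts_chevD4.{u} (lt_nroots hk) t
  set W := uPlus facts_chevD4.{u} ((TT).wA (1 : Fin 2)) (F := K)
  have htail : ∀ d k, k + d = 24 → 15 ≤ k → (prodFrom facts_chevD4.{u} k t : GK) ∈ W := by
    intro d
    induction d with
    | zero =>
      intro k hk _
      rw [prodFrom_top facts_chevD4.{u} (by omega)]
      exact Subgroup.one_mem _
    | succ d ih =>
      intro k hk h15
      rw [hsucc k (by omega)]
      exact Subgroup.mul_mem _ (mem_Rd_root φ hφ (by omega) (by omega) (by omega) _)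
        (ih (k + 1) (by omega) (by omega))
  have h14 : t 14 = 0 := by
    have e := hw.1
    rw [ht, hsucc 12 (by omega), hsucc 13 (by omega), hsucc 14 (by omega)] at e
    have e2 := Subgroup.mul_mem _ (Subgroup.inv_mem _ (mem_Rd_root φ hφ (r := 13) (by omega) (by omega)
      (by omega) (t 13))) (Subgroup.mul_mem _ (Subgroup.inv_mem _ (mem_Rd_root φ hφ (r := 12) (by omega)
      (by omega) (by omega) (t 12))) e)
    rw [inv_mul_cancel_left, inv_mul_cancel_left] at e2
    have e3 := Subgroup.mul_mem _ e2 (Subgroup.inv_mem _ (htail 9 15 rfl le_rfl))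
    rw [mul_inv_cancel_right, ← y_mid_true φ hφ] at e3
    have := uPlus_inf_uMinus (TT).hF ((TT).isMon_nA (1 : Fin 2)) e3 ((TT).y_mem_uMinus _ _)
    rw [← (TT).y_zero true (1 : Fin 2)] at this
    exact (TT).y_injective this
  refine ⟨fun r => if r ∈ Ls then t r else 0, fun r hr => if_neg hr, ?_⟩
  rw [ht]
  have hcongr : ∀ d k, k + d = 24 → 12 ≤ k → (prodFrom facts_chevD4.{u} k t : GK) =
      prodFrom facts_chevD4.{u} k fun r => if r ∈ Ls then t r else 0 := by
    intro d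
    induction d with
    | zero =>
      intro k hk _
      obtain rfl : k = 24 := by omega
      rw [prodFrom_top facts_chevD4.{u} (k := 24) (le_of_eq hn), prodFrom_top facts_chevD4.{u} (k := 24) (le_of_eq hn)]
    | succ d ih =>
      intro k hk h12
      rw [hsucc k (by omega), ih (k + 1) (by omega) (by omega),
        prodFrom_succ facts_chevD4.{u} (k := k) (lt_nroots (by omega))]
      congr 2
      by_cases hk' : k ∈ Ls
      · rw [if_pos hk']
      · rw [if_neg hk']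
        by_cases h14' : k = 14
        · rw [h14', h14]
        · exact hz k h12 (by omega) h14' hk'
  exact hcongr 12 12 rfl le_rfl

/-- A product of root elements along a list of roots. -/
noncomputable def lprod (Ls : List ℕ) (t : ℕ → K) : GK :=
  (Ls.map fun r => xG facts_chevD4.{u} r (t r)).prod

theorem prodFrom_eq_lprod {Ls : List ℕ} (hLs : Ls = [17, 20, 21] ∨ Ls = [22, 23]) {t : ℕ → K}
    (ht : ∀ r, r ∉ Ls → t r = 0) : (prodFrom facts_chevD4.{u} 12 t : GK) = lprod Ls t := by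
  have hn : chevD4.nroots = 24 := mid_facts.2.2.2
  have hx : ∀ r, r ∉ Ls → (xG facts_chevD4.{u} r (t r) : GK) = 1 := fun r hr => by
    rw [ht r hr, xG_zero]
  have hs : ∀ k, k < 24 → (prodFrom facts_chevD4.{u} k t : GK) =
      xG facts_chevD4.{u} k (t k) * prodFrom facts_chevD4.{u} (k + 1) t := fun k hk =>
    prodFrom_succ facts_chevD4.{u} (lt_nroots hk) t
  rw [hs 12 (by omega), hs 13 (by omega), hs 14 (by omega), hs 15 (by omega), hs 16 (by omega),
    hs 17 (by omega), hs 18 (by omega), hs 19 (by omega), hs 20 (by omega), hs 21 (by omega),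
    hs 22 (by omega), hs 23 (by omega), prodFrom_top facts_chevD4.{u} (by omega)]
  rcases hLs with rfl | rfl <;>
    simp [lprod, hx 12 (by simp), hx 13 (by simp), hx 14 (by simp), hx 15 (by simp), hx 16 (by simp),
      hx 18 (by simp), hx 19 (by simp)] <;>
    simp [hx 17, hx 20, hx 21, hx 22, hx 23, mul_assoc]

theorem supp_neg {d : Fin chevD4.rank → Kˣ} {Ls : List ℕ} (hLs : Ls = [17, 20, 21] ∨ Ls = [22, 23])
    (hd : ∀ r : Fin chevD4.nroots, 12 ≤ (r : ℕ) → (r : ℕ) ≠ 14 → (r : ℕ) ∉ Ls →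
      chiU d (chevD4.neg r) ≠ 1)
    {w : GK} (hw : w ∈ (TT).Rn OO (1 : Fin 2)) (h : torusHom d * w = w * torusHom d) :
    ∃ t : ℕ → K, w = lprod (Ls.map chevD4.neg) t := by
  replace hw := ((TT).mem_Rn OO).1 hw
  obtain ⟨e, he⟩ := CentTorus.exists_conj_torus (TT).hF
    (Subgroup.inv_mem _ ((TT).N1_le_monomial ((TT).nW_mem_N1 (OO).ws))) d
  have he' : ((TT).nW (OO).ws) * torusHom e = torusHom d * ((TT).nW (OO).ws) := by
    calc ((TT).nW (OO).ws) * torusHom e = ((TT).nW (OO).ws) * (torusHom e * ((TT).nW (OO).ws)⁻¹) * ((TT).nW (OO).ws) := by group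
      _ = _ := by rw [← he]; group
  have hce : ∀ r : Fin chevD4.nroots, chiU d (chevD4.neg r) = chiU e (r : ℕ) := fun r => by
    rw [← CentTorus.chiU_conj (TT).hF ((TT).isMon_nW (OO).ws) he' r, (OO).neg r]
    rfl
  obtain ⟨t, ht, hwt⟩ := supp_pos φ hφ (d := e) (Ls := Ls)
    (fun r h1 h2 h3 => by rw [← hce]; exact hd r h1 h2 h3) hw (by
    calc torusHom e * (((TT).nW (OO).ws)⁻¹ * w * ((TT).nW (OO).ws)) = ((TT).nW (OO).ws)⁻¹ * (((TT).nW (OO).ws) * torusHom e) * ((TT).nW (OO).ws)⁻¹ * w * ((TT).nW (OO).ws) := by group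
      _ = ((TT).nW (OO).ws)⁻¹ * (torusHom d * w) * ((TT).nW (OO).ws) := by rw [he']; group
      _ = ((TT).nW (OO).ws)⁻¹ * w * (torusHom d * ((TT).nW (OO).ws)) := by rw [h]; group
      _ = _ := by rw [← he']; group)
  rw [prodFrom_eq_lprod hLs ht] at hwt
  have hlt : ∀ r ∈ Ls, r < 24 := by rcases hLs with rfl | rfl <;> simp
  have hnd : (Ls.map chevD4.neg).Nodup := by rcases hLs with rfl | rfl <;> decide +kernel
  classical
  have hf : ∀ r ∈ Ls, ∃ v, ((TT).nW (OO).ws) * xG facts_chevD4.{u} r (t r) * ((TT).nW (OO).ws)⁻¹ =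
      (xG facts_chevD4.{u} (chevD4.neg r) v : GK) := fun r hr => by
    obtain ⟨v, hv⟩ := isMon_conj_mem (TT).hF ((TT).isMon_nW (OO).ws) ⟨r, lt_nroots (hlt r hr)⟩ (t r)
    rw [(OO).neg] at hv
    exact ⟨v, hv⟩
  choose! f hf using hf
  refine ⟨fun m => ∑ r ∈ Ls.toFinset.filter (fun r => chevD4.neg r = m), f r, ?_⟩
  calc w = ((TT).nW (OO).ws) * (((TT).nW (OO).ws)⁻¹ * w * ((TT).nW (OO).ws)) * ((TT).nW (OO).ws)⁻¹ := by group
    _ = MulAut.conj ((TT).nW (OO).ws) (lprod Ls t) := by rw [hwt, MulAut.conj_apply]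
    _ = _ := by
      rw [lprod, lprod, map_list_prod, List.map_map, List.map_map]
      refine congrArg List.prod (List.map_congr_left fun r hr => ?_)
      rw [Function.comp_apply, Function.comp_apply, MulAut.conj_apply, hf r hr]
      congr 1
      rw [Finset.sum_eq_single r]
      · intro b hb hne
        rw [Finset.mem_filter, List.mem_toFinset] at hb
        exact absurd (List.inj_on_of_nodup_map hnd hb.1 hr hb.2) hne
      · intro h'
        simp [hr] at h'

theorem phi_commute {r : ℕ} (hr : r < 24)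
    (h : ∀ s ∈ [14, 9], r ≠ chevD4.neg s ∧ chevD4.commTerms s r = []) (f : K)
    (S : SpecialLinearGroup (Fin 2) K) :
    Commute (phi S) (xG facts_chevD4.{u} r f) := by
  have hS : S ∈ Submonoid.closure (Set.range (SL2Data.upper (F := K)) ∪ {SL2Data.weyl}) := by
    rw [SL2Data.closure_generators]; trivial
  have c1 : ∀ t : K, Commute (phi (upS t)) (xG facts_chevD4.{u} r f) := fun t => by
    rw [phi_up]
    exact (xG_commute_of facts_chevD4.{u} (lt_nroots (r := 14) (by norm_num)) (lt_nroots hr)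
      (Or.inr (h 14 (by simp))) t f).symm
  have c2 : ∀ t : K, Commute (phi (loS t)) (xG facts_chevD4.{u} r f) := fun t => by
    rw [phi_lo]
    exact (xG_commute_of facts_chevD4.{u} (lt_nroots (r := 9) (by norm_num)) (lt_nroots hr)
      (Or.inr (h 9 (by simp))) t f).symm
  induction hS using Submonoid.closure_induction with
  | mem x hx =>
    rcases hx with ⟨b, rfl⟩ | rfl
    · exact c1 b
    · have e : (SL2Data.weyl : SpecialLinearGroup (Fin 2) K) = upS 1 * loS (-1) * upS 1 := by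
        apply Subtype.ext
        show !![0, 1; -1, 0] = !![1, 1; 0, 1] * !![1, 0; -1, 1] * !![1, 1; 0, 1]
        simp
      rw [e, map_mul, map_mul]
      exact ((c1 1).mul_left (c2 _)).mul_left (c1 1)
  | one => rw [map_one]; exact Commute.one_left _
  | mul x y _ _ hx hy => rw [map_mul]; exact hx.mul_left hy

/-! ### The prime field -/

section Prime

variable (p : ℕ) [Fact p.Prime] [CharP K p]

/-- The prime field inside `K`. -/
noncomputable abbrev iota : ZMod p →+* K := ZMod.castHom (dvd_refl p) K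

/-- The rank one group over the prime field. -/
noncomputable def phiP : SpecialLinearGroup (Fin 2) (ZMod p) →* GK :=
  phi.comp (Matrix.SpecialLinearGroup.map (iota p))

theorem iota_fix (t : ZMod p) : φ (iota p t) = iota p t :=
  DFunLike.congr_fun (Subsingleton.elim (φ.comp (iota p)) (iota p)) t

theorem phiP_up (t : ZMod p) : phiP (K := K) p (upS t) = xG facts_chevD4.{u} 14 (iota p t) := by
  rw [← phi_up]
  refine congrArg phi (Subtype.ext ?_)
  show (upS t).1.map (iota p) = _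
  ext i j
  fin_cases i <;> fin_cases j <;> simp [upS]

theorem phiP_lo (t : ZMod p) : phiP (K := K) p (loS t) = xG facts_chevD4.{u} 9 (iota p t) := by
  rw [← phi_lo]
  refine congrArg phi (Subtype.ext ?_)
  show (loS t).1.map (iota p) = _
  ext i j
  fin_cases i <;> fin_cases j <;> simp [loS]

omit [CharP K p] in
/-- Induction over the rank one group over the prime field. -/
theorem sl2_induction {P : SpecialLinearGroup (Fin 2) (ZMod p) → Prop}
    (hu : ∀ t, P (upS t)) (hl : ∀ t, P (loS t)) (h1 : P 1) (hm : ∀ x y, P x → P y → P (x * y))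
    (S : SpecialLinearGroup (Fin 2) (ZMod p)) : P S := by
  have hS : S ∈ Submonoid.closure (Set.range (SL2Data.upper (F := ZMod p)) ∪ {SL2Data.weyl}) := by
    rw [SL2Data.closure_generators]; trivial
  induction hS using Submonoid.closure_induction with
  | mem x hx =>
    rcases hx with ⟨b, rfl⟩ | rfl
    · exact hu b
    · have e : (SL2Data.weyl : SpecialLinearGroup (Fin 2) (ZMod p)) = upS 1 * loS (-1) * upS 1 := by
        apply Subtype.ext
        show !![0, 1; -1, 0] = !![1, 1; 0, 1] * !![1, 0; -1, 1] * !![1, 1; 0, 1]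
        simp
      rw [e]
      exact hm _ _ (hm _ _ (hu 1) (hl _)) (hu 1)
  | one => exact h1
  | mul x y _ _ hx hy => exact hm x y hx hy

theorem phiP_mem (S : SpecialLinearGroup (Fin 2) (ZMod p)) : phiP p S ∈ HH φ hφ := by
  refine sl2_induction p (P := fun S => phiP p S ∈ HH φ hφ) (fun t => ?_) (fun t => ?_) ?_ ?_ S
  · rw [phiP_up, ← y_mid_true φ hφ]
    exact y_mem_HH φ hφ true (par_mid φ hφ (iota_fix φ p t))
  · rw [phiP_lo, ← y_mid_false φ hφ]
    exact y_mem_HH φ hφ false (par_mid φ hφ (iota_fix φ p t))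
  · rw [map_one]; exact Subgroup.one_mem _
  · intro x y hx hy; rw [map_mul]; exact Subgroup.mul_mem _ hx hy

end Prime

/-! ### The flip -/

/-- A representative of the reflection in the short root orthogonal to the long fundamental root. -/
noncomputable def nC : GK :=
  (TT).nW ([0, 1] : List (Fin 2)) * (TT).nA (0 : Fin 2) * ((TT).nW ([0, 1] : List (Fin 2)))⁻¹

theorem nC_mem : nC φ hφ ∈ (TT).G1 :=
  Subgroup.mul_mem _ (Subgroup.mul_mem _ ((TT).nW_mem_G1 _) ((TT).nA_mem_G1 _))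
    (Subgroup.inv_mem _ ((TT).nW_mem_G1 _))

theorem orth_roots : ∀ (s : Bool) (j : Fin 3) (r : Fin chevD4.nroots), ((r : ℕ) = 14 ∨ (r : ℕ) = 9) →
    wv [1, 0] r ≠ chevD4.neg (rtNat chevD4 d4_031_π d4Base s (0 : Fin 2) j) ∧
      chevD4.commTerms (rtNat chevD4 d4_031_π d4Base s (0 : Fin 2) j) (wv [1, 0] r) = [] := by
  decide +kernel

/-- The conjugates of the short fundamental root elements commute with the long one. -/
theorem conj_y_commute (s : Bool) (t : K) {r : ℕ} (hr : r = 14 ∨ r = 9) (f : K) :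
    Commute ((TT).nW ([0, 1] : List (Fin 2)) * (TT).y s (0 : Fin 2) t *
      ((TT).nW ([0, 1] : List (Fin 2)))⁻¹) (xG facts_chevD4.{u} r f) := by
  have hlt : r < 24 := by omega
  set N := (TT).nW ([0, 1] : List (Fin 2)) with hN
  obtain ⟨v, hv⟩ := isMon_conj_mem (TT).hF (isMon_inv' (TT).hF ((TT).isMon_nW ([0, 1] : List (Fin 2))))
    ⟨r, lt_nroots hlt⟩ f
  rw [← hN] at hv
  set r' := ((TT).pW ([0, 1] : List (Fin 2)))⁻¹ ⟨r, lt_nroots hlt⟩ with hr'
  have hval : (r' : ℕ) = wv [1, 0] r := by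
    rw [hr']
    exact (congrArg (fun π : Equiv.Perm (Fin chevD4.nroots) => (π ⟨r, lt_nroots hlt⟩ : ℕ))
      ((TT).pW_reverse ([0, 1] : List (Fin 2)))).trans (pW_val' φ hφ [1, 0] ⟨r, lt_nroots hlt⟩)
  have hcomm : Commute ((TT).y s (0 : Fin 2) t) (xG facts_chevD4.{u} (r' : ℕ) v) := by
    refine Commute.list_prod_left _ _ fun x hx => ?_
    obtain ⟨j, hj, rfl⟩ := List.mem_map.1 hx
    have hj' : j < 3 := List.mem_range.1 hj
    obtain ⟨k1, k2⟩ := orth_roots s ⟨j, hj'⟩ ⟨r, lt_nroots hlt⟩ hr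
    have e : (((TT).rt s (0 : Fin 2) j : Fin chevD4.nroots) : ℕ) =
        rtNat chevD4 d4_031_π d4Base s (0 : Fin 2) j := (TT).rt_val s (0 : Fin 2) j
    refine ((xG_commute_of facts_chevD4.{u} ((TT).rt s (0 : Fin 2) j).2 r'.2 (Or.inr ?_) _ v)).symm
    rw [e, hval]
    exact ⟨k1, k2⟩
  have e2 : xG facts_chevD4.{u} r f = N * xG facts_chevD4.{u} (r' : ℕ) v * N⁻¹ := by
    calc xG facts_chevD4.{u} r f = N * (N⁻¹ * xG facts_chevD4.{u} r f * N⁻¹⁻¹) * N⁻¹ := by group
      _ = _ := by rw [hv]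
  rw [e2]
  exact hcomm.map (MulAut.conj N).toMonoidHom

theorem nC_commute {r : ℕ} (hr : r = 14 ∨ r = 9) (f : K) :
    Commute (nC φ hφ) (xG facts_chevD4.{u} r f) := by
  have e1 := (TT).nn_one (0 : Fin 2)
  rw [nC, ← e1]
  delta Twist.nn
  set N := (TT).nW ([0, 1] : List (Fin 2))
  have h := fun s t => conj_y_commute φ hφ s t hr f
  have := ((h true 1).mul_left (h false (-1⁻¹))).mul_left (h true 1)
  simpa [N, mul_assoc] using this

theorem nC_phiP (p : ℕ) [Fact p.Prime] [CharP K p] (S : SpecialLinearGroup (Fin 2) (ZMod p)) :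
    Commute (nC φ hφ) (phiP p S) := by
  refine sl2_induction p (P := fun S => Commute (nC φ hφ) (phiP p S)) (fun t => ?_) (fun t => ?_) ?_ ?_ S
  · rw [phiP_up]; exact nC_commute φ hφ (Or.inl rfl) _
  · rw [phiP_lo]; exact nC_commute φ hφ (Or.inr rfl) _
  · rw [map_one]; exact Commute.one_right _
  · intro x y hx hy; rw [map_mul]; exact hx.mul_right hy

end Cfsg.Agent.D4Square
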