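import Cfsg.Agent.Chev.Twist.FoldData
import Cfsg.Agent.Chev.Parabolic
import Cfsg.Agent.Chev.Twist.Group
import Cfsg.Agent.Chev.Twist.Common

/-!
A Gauss decomposition with prescribed torus part in a twisted Chevalley group whose longest
element of the Weyl group negates every root.
-/

set_option autoImplicit false
set_option maxRecDepth 100000

namespace Cfsg.Agent.Chev.Twist

open Cfsg.Lie
open scoped MatrixGroups

universe u

variable {D : ChevalleyDatum} {F : Type u} [Field F] (T : Twist D F)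

/-- The value of a product of reflections of orbits. -/
theorem pW_foldr : ∀ (ws : List (Fin T.m)) (r : Fin D.nroots),
    ((T.pW ws r : Fin D.nroots) : ℕ) =
      ws.foldr (fun a s => (orbNats T.π T.base T.len a).foldr (fun i s => D.reflectRoot i s) s) (r : ℕ)
  | [], r => rfl
  | a :: ws, r => by
    rw [T.pW_cons, Equiv.Perm.mul_apply, List.foldr_cons, ← pW_foldr ws r, ← T.pW_single_val,
      T.pW_cons, T.pW_nil, mul_one]

theorem pW_reverse : ∀ ws : List (Fin T.m), (T.pW ws)⁻¹ = T.pW ws.reverse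
  | [] => by rw [List.reverse_nil, T.pW_nil, inv_one]
  | a :: ws => by
    rw [T.pW_cons, mul_inv_rev, pW_reverse ws, List.reverse_cons, T.pW_append, T.pW_cons,
      T.pW_nil, mul_one, T.wA_inv]

theorem pW_singleton (a : Fin T.m) : T.pW [a] = T.wA a := by rw [T.pW_cons, T.pW_nil, mul_one]

theorem pW_cons_congr (a : Fin T.m) {ws ws' : List (Fin T.m)} (h : T.pW ws = T.pW ws') :
    T.pW (a :: ws) = T.pW (a :: ws') := by rw [T.pW_cons, T.pW_cons, h]

theorem nW_eq_mul_torus {ws ws' : List (Fin T.m)} (h : T.pW ws = T.pW ws') :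
    ∃ t ∈ T.T1, T.nW ws = T.nW ws' * t := by
  refine ⟨(T.nW ws')⁻¹ * T.nW ws, T.N1_mem_T1
    (Subgroup.mul_mem _ (Subgroup.inv_mem _ (T.nW_mem_N1 ws')) (T.nW_mem_N1 ws)) ?_, by group⟩
  have h1 := isMon_mul T.hF (isMon_inv' T.hF (T.isMon_nW ws')) (T.isMon_nW ws)
  rwa [h, inv_mul_cancel] at h1

theorem nW_mem_G1 (ws : List (Fin T.m)) : T.nW ws ∈ T.G1 := T.N1_le_G1 (T.nW_mem_N1 ws)

theorem nW_mem_fx (ws : List (Fin T.m)) : T.nW ws ∈ T.fx := T.G1_le_fx (T.nW_mem_G1 ws)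

theorem torus_conj_U1 {t : GL D.Idx F} (ht : t ∈ T.T1) {v : GL D.Idx F} (hv : v ∈ T.U1) :
    t * v * t⁻¹ ∈ T.U1 :=
  (Subgroup.mem_normalizer_iff.1 (T.T1_le_normalizer ht) v).1 hv

theorem torus_conj_U1' {t : GL D.Idx F} (ht : t ∈ T.T1) {v : GL D.Idx F} (hv : v ∈ T.U1) :
    t⁻¹ * v * t ∈ T.U1 := by
  have := T.torus_conj_U1 (Subgroup.inv_mem _ ht) hv
  rwa [inv_inv] at this

theorem torus_comm {s t : GL D.Idx F} (hs : s ∈ T.T1) (ht : t ∈ T.T1) : s * t = t * s := by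
  obtain ⟨c, -, rfl⟩ := hs
  obtain ⟨d, -, rfl⟩ := ht
  rw [← map_mul, ← map_mul, mul_comm]

/-- A monomial fixed element sending the roots of an orbit to the fundamental roots of it. -/
theorem conj_y_true {n : GL D.Idx F} {π : Equiv.Perm (Fin D.nroots)} (hn : IsMon T.hF n π)
    (hf : n ∈ T.fx) (s : Bool) (a : Fin T.m) (h : ∀ j, π (T.rt s a j) = T.rt true a j) {t : F}
    (ht : T.Par a t) : ∃ t', T.Par a t' ∧ n * T.y s a t * n⁻¹ = T.y true a t' := by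
  refine T.exists_y ?_ (Subgroup.mul_mem _ (Subgroup.mul_mem _ hf (T.y_fx ht s))
    (Subgroup.inv_mem _ hf))
  rw [← MulAut.conj_apply, y, yv, map_list_prod, List.map_map]
  refine Subgroup.list_prod_mem _ fun x hx => ?_
  obtain ⟨j, -, rfl⟩ := List.mem_map.1 hx
  obtain ⟨v, hv⟩ := isMon_conj_mem T.hF hn (T.rt s a j) ((T.φ ^ j) t)
  rw [Function.comp_apply, MulAut.conj_apply, hv, h j, T.rt_true]
  refine Subgroup.subset_closure ⟨_, v, T.hF.simple_pos _ (T.node a j).2, ?_, rfl⟩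
  show (T.wA a (sRoot T.hF (T.node a j)) : ℕ) < half D
  rw [T.wA_node]
  exact (neg_lt_half_iff T.hF (sRoot T.hF (T.node a j)).2).2 (T.hF.simple_pos _ (T.node a j).2)

/-- Moving a negative fundamental element across a reflection. -/
theorem y_false_nA (a : Fin T.m) (c : F) :
    T.y false a c * T.nA a = T.nA a * T.y true a (-c) := by
  have h := T.nA_conj_y a (-c)
  rw [neg_neg, mul_inv_eq_iff_eq_mul] at h
  exact h.symm

theorem wA_rt (s : Bool) (a : Fin T.m) (j : ℕ) : T.wA a (T.rt s a j) = T.rt (!s) a j := by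
  cases s with
  | true => exact T.wA_node a j
  | false =>
    show T.wA a (negF T.hF (sRoot T.hF (T.node a j))) = sRoot T.hF (T.node a j)
    rw [weyl_negF T.hF (T.wA_mem a), T.wA_node, negF_negF]

/-! ### The radical of an orbit -/

/-- The fixed elements of the unipotent radical of an orbit. -/
noncomputable def Rd (a : Fin T.m) : Subgroup (GL D.Idx F) := uPlus T.hF (T.wA a) ⊓ T.fx

theorem Rd_le (a : Fin T.m) : T.Rd a ≤ T.U1 := fun _ h =>
  ⟨closure_uGens_le T.hF _ h.1, h.2⟩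

theorem mem_Rd {a : Fin T.m} {g : GL D.Idx F} :
    g ∈ T.Rd a ↔ g ∈ T.U1 ∧ T.nA a * g * (T.nA a)⁻¹ ∈ T.U1 := by
  constructor
  · intro h
    exact ⟨T.Rd_le a h, conj_uPlus T.hF (T.isMon_nA a) h.1,
      Subgroup.mul_mem _ (Subgroup.mul_mem _ (T.nA_fx a) h.2) (Subgroup.inv_mem _ (T.nA_fx a))⟩
  · rintro ⟨h1, h2⟩
    exact ⟨(mem_uPlus_iff T.hF (T.isMon_nA a)).2 ⟨h1.1, h2.1⟩, h1.2⟩

theorem uPlus_le_other (a : Fin T.m) (j : ℕ) :
    uPlus T.hF (T.wA a) ≤ Subgroup.closure (otherRoots T.hF (T.node a j : ℕ) (F := F)) := by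
  refine (Subgroup.closure_le _).2 ?_
  rintro _ ⟨r, t, h1, h2, rfl⟩
  refine Subgroup.subset_closure ⟨r, t, r.2, h1, fun e => ?_, rfl⟩
  rw [show r = sRoot T.hF (T.node a j) from Fin.ext e, T.wA_node] at h2
  exact absurd h2 (not_le.2 ((neg_lt_half_iff T.hF (sRoot T.hF (T.node a j)).2).2
    (T.hF.simple_pos _ (T.node a j).2)))

theorem nA_Rd {a : Fin T.m} {g : GL D.Idx F} (hg : g ∈ T.Rd a) :
    T.nA a * g * (T.nA a)⁻¹ ∈ T.Rd a := by
  obtain ⟨h1, h2⟩ := T.mem_Rd.1 hg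
  refine T.mem_Rd.2 ⟨h2, ?_⟩
  rw [show T.nA a * (T.nA a * g * (T.nA a)⁻¹) * (T.nA a)⁻¹ =
    T.nA a * T.nA a * g * (T.nA a * T.nA a)⁻¹ by group]
  exact T.torus_conj_U1 (T.nA_sq a) h1

theorem torus_Rd {t : GL D.Idx F} (ht : t ∈ T.T1) {a : Fin T.m} {g : GL D.Idx F} (hg : g ∈ T.Rd a) :
    t * g * t⁻¹ ∈ T.Rd a := by
  refine ⟨?_, Subgroup.mul_mem _ (Subgroup.mul_mem _ (T.T1_le_fx ht) hg.2)
    (Subgroup.inv_mem _ (T.T1_le_fx ht))⟩
  obtain ⟨c, -, rfl⟩ := ht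
  exact torus_conj_uGens T.hF c hg.1

theorem nA_inv_Rd {a : Fin T.m} {g : GL D.Idx F} (hg : g ∈ T.Rd a) :
    (T.nA a)⁻¹ * g * T.nA a ∈ T.Rd a := by
  obtain ⟨h, hh, e⟩ := T.nA_inv a
  have := T.torus_Rd hh (T.nA_Rd hg)
  rwa [show h * (T.nA a * g * (T.nA a)⁻¹) * h⁻¹ = h * T.nA a * g * (h * T.nA a)⁻¹ by group, ← e,
    inv_inv] at this

theorem xG_uPlus (a : Fin T.m) (j : ℕ) (t : F) {g : GL D.Idx F} (hg : g ∈ uPlus T.hF (T.wA a)) :
    xG T.hF (T.rt true a j) t * g * (xG T.hF (T.rt true a j) t)⁻¹ ∈ uPlus T.hF (T.wA a) := by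
  have hn := T.isMon_nA a
  refine (mem_uPlus_iff T.hF hn).2 ⟨?_, ?_⟩
  · have hx := mem_posUnipotent_of T.hF (T.rt true a j).2 (T.hF.simple_pos _ (T.node a j).2) t
    exact Subgroup.mul_mem _ (Subgroup.mul_mem _ hx (closure_uGens_le T.hF _ hg))
      (Subgroup.inv_mem _ hx)
  · obtain ⟨v, hv⟩ := isMon_conj_mem T.hF hn (T.rt true a j) t
    rw [T.wA_rt] at hv
    have hh : T.nA a * g * (T.nA a)⁻¹ ∈ Subgroup.closure (otherRoots T.hF (T.node a j : ℕ) (F := F)) := by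
      refine conj_uGens_le T.hF hn (fun r h1 h2 w => ?_) hg
      refine Subgroup.subset_closure ⟨T.wA a r, w, (T.wA a r).2, h2, fun e => ?_, rfl⟩
      have e2 : T.wA a r = T.wA a (T.rt false a j) := by
        rw [T.wA_rt]; exact Fin.ext e
      rw [(T.wA a).injective e2, T.rt_false] at h1
      exact absurd h1 (not_le.2 ((neg_lt_half_iff T.hF (sRoot T.hF (T.node a j)).2).2
        (T.hF.simple_pos _ (T.node a j).2)))
    refine otherRoots_le T.hF (T.node a j : ℕ) ?_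
    rw [show T.nA a * (xG T.hF (T.rt true a j) t * g * (xG T.hF (T.rt true a j) t)⁻¹) * (T.nA a)⁻¹ =
      (T.nA a * xG T.hF (T.rt true a j) t * (T.nA a)⁻¹) * (T.nA a * g * (T.nA a)⁻¹) *
        (T.nA a * xG T.hF (T.rt true a j) t * (T.nA a)⁻¹)⁻¹ by group, hv]
    exact (Subgroup.mem_normalizer_iff.1 (simple_mem_normalizer T.hF (T.node a j).2 v).2 _).1 hh

theorem y_true_Rd {a : Fin T.m} {t : F} (ht : T.Par a t) {g : GL D.Idx F} (hg : g ∈ T.Rd a) :
    T.y true a t * g * (T.y true a t)⁻¹ ∈ T.Rd a := by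
  refine ⟨?_, Subgroup.mul_mem _ (Subgroup.mul_mem _ (T.y_fx ht _) hg.2)
    (Subgroup.inv_mem _ (T.y_fx ht _))⟩
  have key : ∀ (l : List ℕ) (z : GL D.Idx F), z ∈ uPlus T.hF (T.wA a) →
      (l.map fun j => xG T.hF (T.rt true a j) ((T.φ ^ j) t)).prod * z *
        ((l.map fun j => xG T.hF (T.rt true a j) ((T.φ ^ j) t)).prod)⁻¹ ∈ uPlus T.hF (T.wA a) := by
    intro l
    induction l with
    | nil => intro z hz; simpa using hz
    | cons j l ih =>
      intro z hz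
      have := T.xG_uPlus a j ((T.φ ^ j) t) (ih z hz)
      rw [List.map_cons, List.prod_cons, mul_inv_rev]
      simpa [mul_assoc] using this
  exact key _ _ hg.1

theorem y_false_Rd {a : Fin T.m} {t : F} (ht : T.Par a t) {g : GL D.Idx F} (hg : g ∈ T.Rd a) :
    T.y false a t * g * (T.y false a t)⁻¹ ∈ T.Rd a := by
  have := T.nA_Rd (T.y_true_Rd (T.par_neg ht) (T.nA_inv_Rd hg))
  rw [← neg_neg t, ← T.nA_conj_y]
  convert this using 1
  group

theorem y_Rd (s : Bool) {a : Fin T.m} {t : F} (ht : T.Par a t) {g : GL D.Idx F} (hg : g ∈ T.Rd a) :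
    T.y s a t * g * (T.y s a t)⁻¹ ∈ T.Rd a := by
  cases s with
  | true => exact T.y_true_Rd ht hg
  | false => exact T.y_false_Rd ht hg

theorem exists_split_U1 (a : Fin T.m) {v : GL D.Idx F} (hv : v ∈ T.U1) :
    ∃ r ∈ T.Rd a, ∃ t, T.Par a t ∧ v = r * T.y true a t := by
  obtain ⟨x, hx, b, hb, hxf, hbf, rfl⟩ := T.split_fx (T.isMon_nA a) (T.rho_wA a) hv.1 hv.2
  obtain ⟨t, ht, rfl⟩ := T.exists_y hb hbf
  exact ⟨x, ⟨hx, hxf⟩, t, ht, rfl⟩

theorem y_true_mem_Rd_iff {a : Fin T.m} {t : F} (h : T.y true a t ∈ T.Rd a) : t = 0 := by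
  have := uPlus_inf_uMinus T.hF (T.isMon_nA a) h.1 (T.y_mem_uMinus a _)
  rw [← T.y_zero true a] at this
  exact T.y_injective this

/-! ### The opposite unipotent group -/

/-- A monomial element of the group negating all roots. -/
structure Opp where
  ws : List (Fin T.m)
  neg : ∀ r, T.pW ws r = negF T.hF r

variable (O : T.Opp)

/-- The element itself. -/
noncomputable abbrev Opp.n {T : Twist D F} (O : T.Opp) : GL D.Idx F := T.nW O.ws

/-- The opposite unipotent group. -/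
noncomputable def oppU : Subgroup (GL D.Idx F) := T.U1.map (MulAut.conj O.n).toMonoidHom

/-- The opposite radical of an orbit. -/
noncomputable def Rn (a : Fin T.m) : Subgroup (GL D.Idx F) :=
  (T.Rd a).map (MulAut.conj O.n).toMonoidHom

theorem mem_V1 {g : GL D.Idx F} : g ∈ T.oppU O ↔ O.n⁻¹ * g * O.n ∈ T.U1 := by
  constructor
  · rintro ⟨v, hv, rfl⟩
    show O.n⁻¹ * (O.n * v * O.n⁻¹) * O.n ∈ T.U1
    simpa [mul_assoc] using hv
  · intro h
    exact ⟨_, h, by show O.n * (O.n⁻¹ * g * O.n) * O.n⁻¹ = g; group⟩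

theorem mem_Rn {a : Fin T.m} {g : GL D.Idx F} : g ∈ T.Rn O a ↔ O.n⁻¹ * g * O.n ∈ T.Rd a := by
  constructor
  · rintro ⟨v, hv, rfl⟩
    show O.n⁻¹ * (O.n * v * O.n⁻¹) * O.n ∈ T.Rd a
    simpa [mul_assoc] using hv
  · intro h
    exact ⟨_, h, by show O.n * (O.n⁻¹ * g * O.n) * O.n⁻¹ = g; group⟩

theorem Rn_le (a : Fin T.m) : T.Rn O a ≤ T.oppU O := Subgroup.map_mono (T.Rd_le a)

theorem oppU_le_G1 : T.oppU O ≤ T.G1 := by
  rintro _ ⟨v, hv, rfl⟩
  exact Subgroup.mul_mem _ (Subgroup.mul_mem _ (T.nW_mem_G1 _) (T.U1_le_G1 hv))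
    (Subgroup.inv_mem _ (T.nW_mem_G1 _))

theorem V1_le_neg : T.oppU O ≤ D.negUnipotent F := by
  rintro _ ⟨v, hv, rfl⟩
  refine conj_uMinus T.hF (T.isMon_nW O.ws) ?_
  have hv' := hv.1
  rw [posUnipotent_eq T.hF] at hv'
  refine (Subgroup.closure_le _).2 ?_ hv'
  rintro x ⟨r, s, h1, h2, rfl⟩
  refine Subgroup.subset_closure ⟨⟨r, h2⟩, s, h1, ?_, rfl⟩
  show (T.pW O.ws ⟨r, h2⟩ : ℕ) < half D
  rw [O.neg]
  exact (neg_lt_half_iff T.hF (⟨r, h2⟩ : Fin D.nroots).2).2 h1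

theorem opp_conj_y (s : Bool) (a : Fin T.m) {t : F} (ht : T.Par a t) :
    ∃ t', T.Par a t' ∧ O.n⁻¹ * T.y s a t * O.n = T.y (!s) a t' := by
  have hi := isMon_inv' T.hF (T.isMon_nW O.ws)
  have hinv : ∀ r, (T.pW O.ws)⁻¹ r = negF T.hF r := fun r =>
    Equiv.Perm.inv_eq_iff_eq.2 (by rw [O.neg, negF_negF])
  cases s with
  | false =>
    obtain ⟨t', ht', e⟩ := T.conj_y_true hi (Subgroup.inv_mem _ (T.nW_mem_fx O.ws)) false a
      (fun j => by rw [hinv, T.rt_false, negF_negF, T.rt_true]) ht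
    rw [inv_inv] at e
    exact ⟨t', ht', e⟩
  | true =>
    obtain ⟨t', ht', e⟩ := T.conj_y_true (isMon_mul T.hF (isMon_inv' T.hF (T.isMon_nA a)) hi)
      (Subgroup.mul_mem _ (Subgroup.inv_mem _ (T.nA_fx a)) (Subgroup.inv_mem _ (T.nW_mem_fx O.ws))) true a
      (fun j => by
        rw [Equiv.Perm.mul_apply, hinv, T.wA_inv, T.rt_true, ← T.rt_false, T.wA_rt]; rfl) ht
    refine ⟨-t', T.par_neg ht', ?_⟩
    show _ = T.y false a (-t')
    rw [← T.nA_conj_y, ← e]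
    group

theorem torus_Rn {t : GL D.Idx F} (ht : t ∈ T.T1) {a : Fin T.m} {g : GL D.Idx F}
    (hg : g ∈ T.Rn O a) : t * g * t⁻¹ ∈ T.Rn O a := by
  obtain ⟨t', ht', e⟩ := T.torus_nW ht O.ws
  rw [T.mem_Rn] at hg ⊢
  have := T.torus_Rd ht' hg
  convert this using 1
  calc O.n⁻¹ * (t * g * t⁻¹) * O.n = O.n⁻¹ * (t * O.n) * (O.n⁻¹ * g * O.n) * (O.n⁻¹ * (t * O.n))⁻¹ := by group
    _ = _ := by rw [e]; group

theorem y_Rn (s : Bool) {a : Fin T.m} {t : F} (ht : T.Par a t) {g : GL D.Idx F} (hg : g ∈ T.Rn O a) :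
    T.y s a t * g * (T.y s a t)⁻¹ ∈ T.Rn O a := by
  obtain ⟨t', ht', e⟩ := T.opp_conj_y O s a ht
  rw [T.mem_Rn] at hg ⊢
  have := T.y_Rd (!s) ht' hg
  convert this using 1
  rw [← e]
  group

theorem exists_split_V1 (a : Fin T.m) {u : GL D.Idx F} (hu : u ∈ T.oppU O) :
    ∃ r ∈ T.Rn O a, ∃ c, T.Par a c ∧ u = r * T.y false a c := by
  rw [T.mem_V1] at hu
  obtain ⟨r, hr, t, ht, e⟩ := T.exists_split_U1 a hu
  have hi := T.isMon_nW O.ws
  obtain ⟨t', ht', e'⟩ := T.conj_y_true (isMon_mul T.hF (isMon_inv' T.hF (T.isMon_nA a)) hi)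
    (Subgroup.mul_mem _ (Subgroup.inv_mem _ (T.nA_fx a)) (T.nW_mem_fx O.ws)) true a
    (fun j => by
      rw [Equiv.Perm.mul_apply, O.neg, T.wA_inv, T.rt_true, ← T.rt_false, T.wA_rt]; rfl) ht
  refine ⟨O.n * r * O.n⁻¹, Subgroup.mem_map_of_mem _ hr, -t', T.par_neg ht', ?_⟩
  calc u = O.n * (O.n⁻¹ * u * O.n) * O.n⁻¹ := by group
    _ = _ := by rw [e, ← T.nA_conj_y, ← e']; group

theorem y_false_mem_V1 {a : Fin T.m} {t : F} (ht : T.Par a t) : T.y false a t ∈ T.oppU O := by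
  obtain ⟨t', ht', e⟩ := T.opp_conj_y O false a ht
  rw [T.mem_V1, e]
  exact T.y_mem_U1 ht'

/-! ### The descent -/

/-- The torus parts that can be reached from a cell. -/
def Reach (ws : List (Fin T.m)) (t : GL D.Idx F) : Prop :=
  t ∈ T.T1 ∧ ∀ u ∈ T.oppU O, ∃ e ∈ T.U1, ∃ u' ∈ T.oppU O, ∃ p ∈ T.U1, e * u * T.nW ws = u' * t * p

theorem reach_nil : T.Reach O [] 1 :=
  ⟨Subgroup.one_mem _, fun u hu => ⟨1, Subgroup.one_mem _, u, hu, 1, Subgroup.one_mem _, by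
    rw [T.nW_nil]; group⟩⟩

theorem Reach.cons {T : Twist D F} {O : T.Opp} {a : Fin T.m} {ws : List (Fin T.m)}
    {t : GL D.Idx F} (ht : T.Reach O ws t)
    (hpos : half D ≤ ((T.pW ws)⁻¹ (sRoot T.hF (T.base a)) : ℕ)) {s : Fˣ} (hs : T.Par a (s : F)) :
    T.Reach O (a :: ws) (t * ((T.nW ws)⁻¹ * (torusHom (T.hv a s))⁻¹ * T.nW ws)) := by
  set W := T.nW ws with hW
  set h : GL D.Idx F := torusHom (T.hv a s) with hh
  have hhT : h ∈ T.T1 := T.mem_T1.2 ⟨_, T.hv_mem hs, rfl⟩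
  obtain ⟨h', hh', eW⟩ := T.torus_nW (Subgroup.inv_mem _ hhT) ws
  have e' : W⁻¹ * h⁻¹ * W = h' := by rw [mul_assoc, eW, ← hW]; group
  rw [e']
  clear_value h
  have pos : ∀ {x : F}, T.Par a x → W⁻¹ * T.y true a x * W ∈ T.U1 := fun hx =>
    T.conj_y_mem (T.isMon_nW ws) (T.nW_mem_fx ws) (T.inW1_pW ws) hpos hx
  refine ⟨Subgroup.mul_mem _ ht.1 hh', fun u hu => ?_⟩
  obtain ⟨u1, hu1, c, hc, rfl⟩ := T.exists_split_V1 O a hu
  have hx : T.Par a (-(s : F)) := T.par_neg hs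
  set x : GL D.Idx F := h⁻¹ * T.y true a (-(s : F)) * h with hx'
  have hxU : x ∈ T.U1 := T.torus_conj_U1' hhT (T.y_mem_U1 hx)
  have hxu : x * u1 * x⁻¹ ∈ T.Rn O a := by
    have := T.torus_Rn O (Subgroup.inv_mem _ hhT) (T.y_Rn O true hx
      (T.torus_Rn O hhT hu1))
    convert this using 1
    rw [hx']
    group
  have hy : T.Par a (-((s : F))⁻¹) := T.par_neg (T.par_inv hs)
  set Y : GL D.Idx F := h⁻¹ * T.y false a (-((s : F))⁻¹) * h with hY
  have hYV : Y ∈ T.oppU O := by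
    rw [hY]
    have := T.torus_conj_y (c := (T.hv a s)⁻¹) (Subgroup.inv_mem _ (T.hv_mem hs)) false a
      (-((s : F))⁻¹)
    rw [map_inv, inv_inv, ← hh] at this
    rw [this]
    exact T.y_false_mem_V1 O (T.par_mul (T.par_chiU (Subgroup.inv_mem _ (T.hv_mem hs)) _ _) hy)
  obtain ⟨e, he, u', hu', p, hp, ep⟩ := ht.2 _
    (Subgroup.mul_mem _ (T.Rn_le O a hxu) hYV)
  refine ⟨e * x, Subgroup.mul_mem _ he hxU, u', hu',
    h'⁻¹ * p * h' * (W⁻¹ * T.y true a s * W) * (W⁻¹ * T.y true a (-c) * W),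
    Subgroup.mul_mem _ (Subgroup.mul_mem _ (T.torus_conj_U1' hh' hp) (pos hs)) (pos (T.par_neg hc)), ?_⟩
  have key : x * T.nA a = Y * h⁻¹ * T.y true a (s : F) := by
    have hnn : T.y true a (-(s : F)) * T.nn a (s : F) =
        T.y false a (-((s : F))⁻¹) * T.y true a (s : F) := by
      show T.y true a (-(s : F)) * (T.y true a (s : F) * T.y false a (-((s : F))⁻¹) *
        T.y true a (s : F)) = _
      rw [← mul_assoc, ← mul_assoc, T.y_mul, neg_add_cancel, T.y_zero, one_mul]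
    rw [T.nn_torus, ← hh] at hnn
    calc x * T.nA a = h⁻¹ * (T.y true a (-(s : F)) * (h * T.nA a)) := by rw [hx']; group
      _ = _ := by rw [hnn, hY]; group
  rw [T.nW_cons]
  calc e * x * (u1 * T.y false a c) * (T.nA a * W)
      = e * (x * u1 * x⁻¹) * x * (T.y false a c * T.nA a) * W := by group
    _ = e * (x * u1 * x⁻¹) * x * (T.nA a * T.y true a (-c)) * W := by rw [T.y_false_nA]
    _ = e * (x * u1 * x⁻¹) * (x * T.nA a) * T.y true a (-c) * W := by group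
    _ = (e * (x * u1 * x⁻¹ * Y) * W) * (W⁻¹ * h⁻¹ * W) * (W⁻¹ * T.y true a s * W) *
          (W⁻¹ * T.y true a (-c) * W) := by rw [key]; group
    _ = _ := by rw [ep, e']; group

/-- The torus parts reached from a cell do not change when a letter is prepended. -/
theorem reach_all_cons {a : Fin T.m} {ws : List (Fin T.m)}
    (h : ∀ t ∈ T.T1, T.Reach O ws t)
    (hpos : half D ≤ ((T.pW ws)⁻¹ (sRoot T.hF (T.base a)) : ℕ)) :
    ∀ t ∈ T.T1, T.Reach O (a :: ws) t := by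
  intro t ht
  have hs : T.Par a ((1 : Fˣ) : F) := T.par_one a
  have h1 := (h t ht).cons hpos hs
  have e : T.hv a 1 = 1 := by
    funext i
    rw [T.hv_apply]
    refine List.prod_eq_one fun x hx => ?_
    obtain ⟨j, -, rfl⟩ := List.mem_map.1 hx
    split_ifs <;> simp
  rw [e, map_one, inv_one, mul_one, inv_mul_cancel, mul_one] at h1
  exact h1

theorem hv_map_mul (a : Fin T.m) (u v : Fˣ) : T.hv a (u * v) = T.hv a u * T.hv a v := by
  funext i
  rw [Pi.mul_apply]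
  by_cases h : ∃ j < T.len a, T.node a j = i
  · obtain ⟨j, hj, rfl⟩ := h
    rw [T.hv_node a _ hj, T.hv_node a _ hj, T.hv_node a _ hj, map_mul]
  · push Not at h
    rw [T.hv_other _ h, T.hv_other _ h, T.hv_other _ h, mul_one]

theorem hv_inv (a : Fin T.m) (u : Fˣ) : T.hv a u⁻¹ = (T.hv a u)⁻¹ :=
  eq_inv_of_mul_eq_one_left (by
    rw [← T.hv_map_mul, inv_mul_cancel]
    funext i
    by_cases h : ∃ j < T.len a, T.node a j = i
    · obtain ⟨j, hj, rfl⟩ := h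
      rw [T.hv_node a _ hj, map_one, Pi.one_apply]
    · push Not at h
      rw [T.hv_other _ h, Pi.one_apply])

theorem reach_single (a : Fin T.m) {s : Fˣ} (hs : T.Par a (s : F)) :
    T.Reach O [a] (torusHom (T.hv a s)) := by
  have hs' : T.Par a ((s⁻¹ : Fˣ) : F) := by rw [Units.val_inv_eq_inv_val]; exact T.par_inv hs
  have := (T.reach_nil O).cons (a := a) (by
    rw [T.pW_nil, inv_one, Equiv.Perm.one_apply]
    exact T.hF.simple_pos _ (T.base a).2) hs'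
  rwa [T.nW_nil, inv_one, one_mul, one_mul, mul_one, T.hv_inv, map_inv, inv_inv] at this

theorem mem_T1_hv {t : GL D.Idx F} (ht : t ∈ T.T1) :
    ∃ c ∈ T.cfix, t = torusHom (∏ a, T.hv a (c (T.base a))) := by
  obtain ⟨c, hc, rfl⟩ := ht
  exact ⟨c, hc, by rw [← T.eq_prod_hv hc]⟩

/-- Two different letters reach all of the torus. -/
theorem reach_pair {i j : Fin T.m} (hm : ∀ b, b = i ∨ b = j) (hne : i ≠ j)
    (hpos : half D ≤ ((T.pW [j])⁻¹ (sRoot T.hF (T.base i)) : ℕ)) :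
    ∀ t ∈ T.T1, T.Reach O [i, j] t := by
  intro t ht
  obtain ⟨c, hc, rfl⟩ := T.mem_T1.1 ht
  have hu := T.par_base hc i
  set u : Fˣ := c (T.base i) with hudef
  have hu' : T.Par i ((u⁻¹ : Fˣ) : F) := by rw [Units.val_inv_eq_inv_val]; exact T.par_inv hu
  have hnW : T.nW [j] = T.nA j := by rw [T.nW_cons, T.nW_nil, mul_one]
  -- the effect of the first letter
  obtain ⟨h', hh', eW⟩ := T.torus_nW (T.mem_T1.2 ⟨_, T.hv_mem hu, rfl⟩) [j]
  obtain ⟨d, hd, rfl⟩ := T.mem_T1.1 hh'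
  -- only the nodes of the second orbit change
  obtain ⟨w, hw, hdw⟩ : ∃ w : Fˣ, T.Par j (w : F) ∧
      (torusHom d : GL D.Idx F) = torusHom (T.hv i u * T.hv j w) := by
    have hh : (torusHom (T.hv i u) : GL D.Idx F) * T.nA j = T.nA j * torusHom d := by
      rw [← hnW]; exact eW
    rw [T.nA_conj_torus, mul_left_inj] at hh
    refine ⟨chiU d (T.rt true j 0), T.par_chiU hd true j, ?_⟩
    have e1 : ((T.orb j).map fun k : Fin D.rank => Pi.mulSingle k (chiU d (D.simple k))⁻¹).prod =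
        T.hv j (chiU d (T.rt true j 0))⁻¹ := by
      rw [orb, List.map_map, hv]
      refine congrArg List.prod (List.map_congr_left fun k _ => ?_)
      rw [Function.comp_apply, map_inv]
      exact congrArg (fun x => Pi.mulSingle (T.node j k) x⁻¹) (T.chiU_rt hd true j k)
    rw [map_mul, hh, e1, ← map_mul, mul_assoc, T.hv_inv, inv_mul_cancel, mul_one]
  have hv' : T.Par j ((c (T.base j) / w : Fˣ) : F) := by
    rw [Units.val_div_eq_div_val, div_eq_mul_inv]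
    exact T.par_mul (T.par_base hc j) (T.par_inv hw)
  have h1 := (T.reach_single O j hv').cons hpos hu'
  have e2 : torusHom (T.hv j (c (T.base j) / w)) *
      ((T.nW [j])⁻¹ * (torusHom (T.hv i u⁻¹) : GL D.Idx F)⁻¹ * T.nW [j]) = torusHom c := by
    rw [T.hv_inv, map_inv, inv_inv, mul_assoc (T.nW [j])⁻¹, eW, inv_mul_cancel_left, hdw, ← map_mul]
    conv_rhs => rw [T.eq_prod_hv hc]
    have huniv : (Finset.univ : Finset (Fin T.m)) = {i, j} := by
      ext b; simpa using hm b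
    rw [huniv, Finset.prod_pair hne, ← hudef]
    congr 1
    rw [mul_left_comm, ← T.hv_map_mul, div_mul_cancel]
  rwa [e2] at h1

/-- Conjugacy under the group. -/
def Cj (g h : GL D.Idx F) : Prop := ∃ e ∈ T.G1, e * g * e⁻¹ = h

theorem Cj.refl (g : GL D.Idx F) : T.Cj g g := ⟨1, Subgroup.one_mem _, by group⟩

theorem Cj.trans {T : Twist D F} {g h k : GL D.Idx F} (h1 : T.Cj g h) (h2 : T.Cj h k) :
    T.Cj g k := by
  obtain ⟨e, he, rfl⟩ := h1
  obtain ⟨e', he', rfl⟩ := h2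
  exact ⟨e' * e, Subgroup.mul_mem _ he' he, by group⟩

theorem Cj.inv {T : Twist D F} {g h : GL D.Idx F} (h1 : T.Cj g h) : T.Cj g⁻¹ h⁻¹ := by
  obtain ⟨e, he, rfl⟩ := h1
  exact ⟨e, he, by group⟩

theorem Cj.symm {T : Twist D F} {g h : GL D.Idx F} (h1 : T.Cj g h) : T.Cj h g := by
  obtain ⟨e, he, rfl⟩ := h1
  exact ⟨e⁻¹, Subgroup.inv_mem _ he, by group⟩

/-- The cell of a word. -/
def BCell (ws : List (Fin T.m)) (g : GL D.Idx F) : Prop :=
  ∃ h ∈ T.T1, ∃ v ∈ T.U1, T.Cj g (T.nW ws * h * v)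

/-- A cell with all torus parts reached gives any torus part. -/
theorem gauss_of_reach {ws : List (Fin T.m)} (hr : ∀ t ∈ T.T1, T.Reach O ws t) {g : GL D.Idx F}
    (hg : T.BCell ws g) {t : GL D.Idx F} (ht : t ∈ T.T1) :
    ∃ u ∈ T.oppU O, ∃ v ∈ T.U1, T.Cj g (u * t * v) := by
  obtain ⟨h, hh, v, hv, hcj⟩ := hg
  obtain ⟨e, he, u, hu, p, hp, ep⟩ := (hr _ (Subgroup.mul_mem _ ht (Subgroup.inv_mem _ hh))).2 1
    (Subgroup.one_mem _)
  rw [mul_one] at ep
  refine ⟨u, hu, h⁻¹ * p * h * (v * e⁻¹), Subgroup.mul_mem _ (T.torus_conj_U1' hh hp)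
    (Subgroup.mul_mem _ hv (Subgroup.inv_mem _ he)), hcj.trans ⟨e, T.U1_le_G1 he, ?_⟩⟩
  calc e * (T.nW ws * h * v) * e⁻¹ = e * T.nW ws * h * (v * e⁻¹) := by group
    _ = _ := by rw [ep]; group

theorem BCell.of_cj {T : Twist D F} {ws : List (Fin T.m)} {g g' : GL D.Idx F} (h : T.BCell ws g')
    (hg : T.Cj g g') : T.BCell ws g := by
  obtain ⟨t, ht, v, hv, e⟩ := h
  exact ⟨t, ht, v, hv, hg.trans e⟩

theorem BCell.congr {T : Twist D F} {ws ws' : List (Fin T.m)} {g : GL D.Idx F} (h : T.BCell ws g)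
    (e : T.pW ws = T.pW ws') : T.BCell ws' g := by
  obtain ⟨t, ht, v, hv, hcj⟩ := h
  obtain ⟨s, hs, es⟩ := T.nW_eq_mul_torus e
  exact ⟨s * t, Subgroup.mul_mem _ hs ht, v, hv, by rw [es, mul_assoc (T.nW ws') s t] at hcj; exact hcj⟩

theorem cell_of_bruhat {b b' : GL D.Idx F} (hb : b ∈ T.B1) (hb' : b' ∈ T.B1)
    (ws : List (Fin T.m)) : T.BCell ws (b * T.nW ws * b') := by
  have h : b' * b ∈ T.B1 := Subgroup.mul_mem _ hb' hb
  obtain ⟨v, hv, t, ht, e⟩ := T.mem_B1.1 h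
  refine ⟨t, ht, t⁻¹ * v * t, T.torus_conj_U1' ht hv, b⁻¹, Subgroup.inv_mem _ (T.B1_le_G1 hb), ?_⟩
  calc b⁻¹ * (b * T.nW ws * b') * b⁻¹⁻¹ = T.nW ws * (b' * b) := by group
    _ = _ := by rw [← e]; group

theorem nW_inv : ∀ ws : List (Fin T.m), ∃ h ∈ T.T1, (T.nW ws)⁻¹ = T.nW ws.reverse * h
  | [] => ⟨1, Subgroup.one_mem _, by simp [T.nW_nil]⟩
  | a :: ws => by
    obtain ⟨h, hh, e⟩ := nW_inv ws
    obtain ⟨k, hk, ek⟩ := T.nA_inv a
    obtain ⟨h', hh', e'⟩ := T.torus_nW (Subgroup.mul_mem _ hh hk) [a]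
    refine ⟨h', hh', ?_⟩
    rw [T.nW_cons, mul_inv_rev, e, ek, List.reverse_cons, T.nW_append, T.nW_cons, T.nW_nil, mul_one]
    rw [T.nW_cons, T.nW_nil, mul_one] at e'
    calc T.nW ws.reverse * h * (k * T.nA a) = T.nW ws.reverse * (h * k * T.nA a) := by group
      _ = _ := by rw [e']; group

theorem BCell.reverse {T : Twist D F} {ws : List (Fin T.m)} {g : GL D.Idx F} (h : T.BCell ws g) :
    T.BCell ws.reverse g⁻¹ := by
  obtain ⟨t, ht, v, hv, hcj⟩ := h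
  obtain ⟨k, hk, e⟩ := T.nW_inv ws
  refine BCell.of_cj ?_ hcj.inv
  rw [mul_inv_rev, mul_inv_rev, e, show v⁻¹ * (t⁻¹ * (T.nW ws.reverse * k)) =
    v⁻¹ * t⁻¹ * T.nW ws.reverse * k by group]
  exact T.cell_of_bruhat (Subgroup.mul_mem _ (Subgroup.mem_sup_left (Subgroup.inv_mem _ hv))
    (Subgroup.mem_sup_right (Subgroup.inv_mem _ ht))) (Subgroup.mem_sup_right hk) _

/-- Rotation of a letter. -/
theorem BCell.rotate {T : Twist D F} {a : Fin T.m} {ws : List (Fin T.m)} {g : GL D.Idx F}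
    (h : T.BCell (a :: ws) g) : T.BCell (a :: ws.reverse) g⁻¹ ∨ T.BCell ws.reverse g⁻¹ := by
  obtain ⟨t, ht, v, hv, hcj⟩ := h
  obtain ⟨k, hk, e⟩ := T.nW_inv ws
  obtain ⟨k', hk', e'⟩ := T.nA_inv a
  have hb : (v⁻¹ * t⁻¹) ∈ T.B1 := Subgroup.mul_mem _
    (Subgroup.mem_sup_left (Subgroup.inv_mem _ hv)) (Subgroup.mem_sup_right (Subgroup.inv_mem _ ht))
  obtain ⟨b1, hb1, b2, hb2, hstep⟩ := T.step a ws.reverse hb
  have hc : T.Cj g⁻¹ (k' * (T.nA a * (v⁻¹ * t⁻¹) * T.nW ws.reverse) * k) := by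
    refine hcj.inv.trans ⟨(T.nA a)⁻¹, Subgroup.inv_mem _ (T.nA_mem_G1 a), ?_⟩
    rw [T.nW_cons, mul_inv_rev, mul_inv_rev, mul_inv_rev, e, inv_inv]
    calc (T.nA a)⁻¹ * (v⁻¹ * (t⁻¹ * (T.nW ws.reverse * k * (T.nA a)⁻¹))) * T.nA a
        = (T.nA a)⁻¹ * (v⁻¹ * t⁻¹) * T.nW ws.reverse * k := by group
      _ = _ := by rw [e']; group
  rcases hstep with hs | hs
  · refine Or.inl (BCell.of_cj ?_ hc)
    rw [hs, show k' * (b1 * T.nW (a :: ws.reverse) * b2) * k =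
      (k' * b1) * T.nW (a :: ws.reverse) * (b2 * k) by group]
    exact T.cell_of_bruhat (Subgroup.mul_mem _ (Subgroup.mem_sup_right hk') hb1)
      (Subgroup.mul_mem _ hb2 (Subgroup.mem_sup_right hk)) _
  · refine Or.inr (BCell.of_cj ?_ hc)
    rw [hs, show k' * (b1 * T.nW ws.reverse * b2) * k =
      (k' * b1) * T.nW ws.reverse * (b2 * k) by group]
    exact T.cell_of_bruhat (Subgroup.mul_mem _ (Subgroup.mem_sup_right hk') hb1)
      (Subgroup.mul_mem _ hb2 (Subgroup.mem_sup_right hk)) _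

/-- A one letter cell prolonged by another letter. -/
theorem BCell.prolong {T : Twist D F} {i j : Fin T.m} {g : GL D.Idx F} (h : T.BCell [i] g)
    (hpos : half D ≤ (T.pW [j, i, j] (negF T.hF (sRoot T.hF (T.base j))) : ℕ)) :
    T.BCell [j, i, j] g := by
  obtain ⟨t, ht, v, hv, hcj⟩ := h
  obtain ⟨r, hr, s, hs, rfl⟩ := T.exists_split_U1 j hv
  obtain ⟨k, hk, ek⟩ := T.nA_inv j
  obtain ⟨t', ht', et⟩ := T.torus_nW (Subgroup.mul_mem _ ht hk) [j]
  rw [T.nW_cons, T.nW_nil, mul_one] at et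
  set W := T.nW [j, i, j] with hW
  obtain ⟨c, hc, rfl⟩ := T.mem_T1.1 ht'
  set r' := T.nA j * r * (T.nA j)⁻¹ with hr'
  set r'' := (T.y false j (-s))⁻¹ * r' * T.y false j (-s) with hr''
  have hr2 : r'' ∈ T.Rd j := by
    have := T.y_false_Rd (T.par_neg (T.par_neg hs)) (T.nA_Rd hr)
    rw [← T.y_inv, inv_inv, ← hr'] at this
    exact this
  set f : F := (chiU c (T.rt false j 0) : F) * (-s) with hf
  have hfp : T.Par j f := T.par_mul (T.par_chiU hc false j) (T.par_neg hs)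
  have hz : W * T.y false j f * W⁻¹ ∈ T.U1 := by
    refine ⟨?_, Subgroup.mul_mem _ (Subgroup.mul_mem _ (T.nW_mem_fx _) (T.y_fx hfp _))
      (Subgroup.inv_mem _ (T.nW_mem_fx _))⟩
    rw [← MulAut.conj_apply, y, yv, map_list_prod, List.map_map]
    refine Subgroup.list_prod_mem _ fun x hx => ?_
    obtain ⟨l, -, rfl⟩ := List.mem_map.1 hx
    obtain ⟨w, hw⟩ := isMon_conj_mem T.hF (T.isMon_nW [j, i, j]) (T.rt false j l) ((T.φ ^ l) f)
    rw [Function.comp_apply, MulAut.conj_apply, hw]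
    refine mem_posUnipotent_of T.hF (T.pW [j, i, j] (T.rt false j l)).2 ?_ _
    have hn := (T.inW1_pW [j, i, j])
    rw [weyl_negF T.hF hn.1] at hpos
    rw [T.rt_false, weyl_negF T.hF hn.1]
    refine (pos_negF_iff T.hF _).2 ?_
    by_contra hcon
    have h2 := (T.node_sign hn j l).1 (not_lt.1 hcon)
    exact absurd ((pos_negF_iff T.hF _).1 hpos) (not_lt.2 h2)
  refine BCell.of_cj (T.cell_of_bruhat (Subgroup.mem_sup_left hz)
    (Subgroup.mul_mem _ (Subgroup.mem_sup_right (T.mem_T1.2 ⟨c, hc, rfl⟩))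
      (Subgroup.mem_sup_left (T.Rd_le j hr2))) _) (hcj.trans ⟨T.nA j, T.nA_mem_G1 j, ?_⟩)
  have hWe : W = T.nA j * T.nA i * T.nA j := by
    rw [hW, T.nW_cons, T.nW_cons, T.nW_cons, T.nW_nil, mul_one, mul_assoc]
  have htc : torusHom c * T.y false j (-s) = T.y false j f * torusHom c := by
    rw [hf, ← T.torus_conj_y hc, inv_mul_cancel_right]
  calc T.nA j * (T.nW [i] * t * (r * T.y true j s)) * (T.nA j)⁻¹
      = T.nA j * T.nA i * (t * (T.nA j)⁻¹) * r' * (T.nA j * T.y true j s * (T.nA j)⁻¹) := by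
        rw [hr', T.nW_cons, T.nW_nil, mul_one]; group
    _ = T.nA j * T.nA i * (t * k * T.nA j) * (T.y false j (-s) * r'') := by
        rw [T.nA_conj_y, ek, hr'']; group
    _ = W * (torusHom c * T.y false j (-s)) * r'' := by rw [et, hWe]; group
    _ = _ := by rw [htc, show T.nW [j, i, j] = W from rfl]; group

/-- One step of rank one. -/
theorem y_true_nn (a : Fin T.m) (s : Fˣ) :
    T.y true a (-(s : F)) * (torusHom (T.hv a s) * T.nA a) =
      T.y false a (-((s : F))⁻¹) * T.y true a (s : F) := by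
  rw [← T.nn_torus]
  show T.y true a (-(s : F)) * (T.y true a (s : F) * T.y false a (-((s : F))⁻¹) *
    T.y true a (s : F)) = _
  rw [← mul_assoc, ← mul_assoc, T.y_mul, neg_add_cancel, T.y_zero, one_mul]

/-- The reflection of an orbit inverts its coroot. -/
theorem nA_hv (a : Fin T.m) {u : Fˣ} (hu : T.Par a (u : F)) :
    T.nA a * torusHom (T.hv a u) * (T.nA a)⁻¹ = (torusHom (T.hv a u⁻¹) : GL D.Idx F) := by
  have hc := T.hv_mem hu
  rw [T.nA_conj_torus, mul_inv_cancel_right]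
  have e1 : ((T.orb a).map fun k : Fin D.rank =>
      Pi.mulSingle k (chiU (T.hv a u) (D.simple k))⁻¹).prod = T.hv a ((u ^ 2)⁻¹) := by
    rw [← T.chiU_hv a u, orb, List.map_map, hv]
    refine congrArg List.prod (List.map_congr_left fun k _ => ?_)
    rw [Function.comp_apply, map_inv]
    exact congrArg (fun x => Pi.mulSingle (T.node a k) x⁻¹) (T.chiU_rt hc true a k)
  rw [e1, ← T.hv_map_mul]
  congr 2
  rw [pow_two]
  group

theorem y_true_mem_cell (a : Fin T.m) {s : Fˣ} (hs : T.Par a (s : F)) :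
    ∃ h ∈ T.T1, T.y false a (-((s : F))⁻¹) = T.y true a (-(s : F)) * h * T.nA a * T.y true a (-(s : F)) := by
  refine ⟨_, T.mem_T1.2 ⟨_, T.hv_mem hs, rfl⟩, ?_⟩
  rw [mul_assoc (T.y true a (-(s : F))), T.y_true_nn, mul_assoc, T.y_mul, add_neg_cancel, T.y_zero,
    mul_one]

end Cfsg.Agent.Chev.Twist
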