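import Cfsg.Agent.D4Square.Levi

/-!
An element of order eight of ³D₄(3) whose class squared covers every non-identity element.
-/

set_option autoImplicit false
set_option maxRecDepth 100000
set_option maxHeartbeats 1000000

namespace Cfsg.Agent.D4Square

open Cfsg.Lie Cfsg.Agent.Chev Matrix
open scoped MatrixGroups

universe u

local notation "S3" => SpecialLinearGroup (Fin 2) (ZMod 3)

/-- Conjugation by the diagonal matrix with entries `1` and `-1`. -/
def sgFun (A : S3) : S3 :=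
  ⟨!![A.1 0 0, -A.1 0 1; -A.1 1 0, A.1 1 1], by
    have := A.2
    rw [det_fin_two] at this ⊢
    simp
    linear_combination this⟩

theorem sgFun_val (A : S3) : ((sgFun A : S3) : Matrix (Fin 2) (Fin 2) (ZMod 3)) =
    !![A.1 0 0, -A.1 0 1; -A.1 1 0, A.1 1 1] := rfl

theorem sgFun_mul (A B : S3) : sgFun (A * B) = sgFun A * sgFun B := by
  apply Subtype.ext
  rw [Matrix.SpecialLinearGroup.coe_mul, sgFun_val, sgFun_val, sgFun_val,
    Matrix.SpecialLinearGroup.coe_mul]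
  ext i j
  fin_cases i <;> fin_cases j <;> simp [Matrix.mul_apply, Fin.sum_univ_two] <;> ring

/-- The same as a homomorphism. -/
def sg : S3 →* S3 := MonoidHom.mk' sgFun sgFun_mul

theorem sg_up (t : ZMod 3) : sg (upS t) = upS (-t) := by
  apply Subtype.ext
  show ((sgFun (upS t) : S3) : Matrix (Fin 2) (Fin 2) (ZMod 3)) = _
  rw [sgFun_val]
  simp [upS]

theorem sg_lo (t : ZMod 3) : sg (loS t) = loS (-t) := by
  apply Subtype.ext
  show ((sgFun (loS t) : S3) : Matrix (Fin 2) (Fin 2) (ZMod 3)) = _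
  rw [sgFun_val]
  simp [loS]

/-- The two unimodular parts of the chosen classes. -/
def Pm : Fin 2 → S3 := ![⟨!![0, 2; 1, 2], by decide⟩, ⟨!![0, 1; 2, 1], by decide⟩]

/-- Minus the identity. -/
def negOne : S3 := ⟨!![2, 0; 0, 2], by decide⟩

/-- The element `S P σ(S⁻¹)`. -/
def Qm (S : S3) (e : Fin 2) : S3 := S * Pm e * sg S⁻¹

theorem facts3 : (∀ e, (Pm e * sg (Pm e)) * (Pm e * sg (Pm e)) = negOne) ∧
    Pm 0 * sg negOne = Pm 1 ∧ (negOne * negOne = 1) ∧
    negOne = upS (-1) * loS 1 * upS (-1) * (upS (-1) * loS 1 * upS (-1)) := by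
  refine ⟨?_, ?_, ?_, ?_⟩ <;> decide +kernel

/-- Every product of a lower and an upper element is a product of two members of the classes. -/
theorem table3 : ∀ c a : ZMod 3, ∃ (A B : S3) (e f : Fin 2),
    loS c * upS a = Qm A e * sg (Qm B f) := by
  intro c a
  fin_cases c <;> fin_cases a
  · exact ⟨⟨!![0, 1; 2, 0], by decide⟩, ⟨!![1, 0; 0, 1], by decide⟩, 0, 1, by decide +kernel⟩
  · exact ⟨⟨!![0, 1; 2, 0], by decide⟩, ⟨!![0, 1; 2, 2], by decide⟩, 0, 0, by decide +kernel⟩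
  · exact ⟨⟨!![0, 1; 2, 1], by decide⟩, ⟨!![1, 0; 2, 1], by decide⟩, 0, 0, by decide +kernel⟩
  · exact ⟨⟨!![0, 1; 2, 0], by decide⟩, ⟨!![0, 1; 2, 1], by decide⟩, 0, 0, by decide +kernel⟩
  · exact ⟨⟨!![1, 0; 0, 1], by decide⟩, ⟨!![1, 0; 0, 1], by decide⟩, 0, 0, by decide +kernel⟩
  · exact ⟨⟨!![0, 1; 2, 1], by decide⟩, ⟨!![1, 0; 0, 1], by decide⟩, 0, 1, by decide +kernel⟩
  · exact ⟨⟨!![1, 0; 0, 1], by decide⟩, ⟨!![1, 0; 2, 1], by decide⟩, 0, 0, by decide +kernel⟩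
  · exact ⟨⟨!![0, 1; 2, 2], by decide⟩, ⟨!![1, 0; 0, 1], by decide⟩, 0, 1, by decide +kernel⟩
  · exact ⟨⟨!![0, 1; 2, 2], by decide⟩, ⟨!![0, 1; 2, 2], by decide⟩, 0, 0, by decide +kernel⟩

/-- The exponents of `-1` at the roots. -/
def sumPr (r : ℕ) : ℤ := (pr r).sum

theorem parity_facts :
    (∀ r : Fin chevD4.nroots, 12 ≤ (r : ℕ) → (r : ℕ) ≠ 14 → (r : ℕ) ∉ [17, 20, 21] →
      Odd (chevD4.cartan 1 r) ∧ Odd (chevD4.cartan 1 (chevD4.neg r))) ∧
    (∀ r ∈ [17, 20, 21] ++ [17, 20, 21].map chevD4.neg, r < 24 ∧ Odd (sumPr r) ∧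
      (∀ s ∈ [14, 9], r ≠ chevD4.neg s ∧ chevD4.commTerms s r = []) ∧
      ∀ s ∈ [17, 20, 21] ++ [17, 20, 21].map chevD4.neg, (r < 12 ↔ s < 12) →
        s = r ∨ s ≠ chevD4.neg r ∧ chevD4.commTerms r s = []) ∧
    (∀ r : Fin chevD4.nroots, Even (sumPr (wv [0, 1, 0, 1, 0] r) + chevD4.cartan 1 (wv [0, 1, 0, 1, 0] r)
      - sumPr r)) ∧
    sumPr 14 = -1 ∧ sumPr 9 = 1 := by
  simp only [Int.even_iff, Int.odd_iff]
  decide +kernel

variable {K : Type u} [Field K]

local notation "GK" => GL chevD4.Idx K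

/-- The constant parameter `-1`. -/
def cm : Fin chevD4.rank → Kˣ := fun _ => -1

/-- The torus element with all parameters `-1`. -/
noncomputable def tau : GK := torusHom cm

theorem chiU_cm (r : ℕ) : chiU (cm (K := K)) r = (-1) ^ sumPr r := by
  show ∏ j : Fin 4, (-1 : Kˣ) ^ chevD4.cartan j r = _
  rw [Fin.prod_univ_four, ← _root_.zpow_add, ← _root_.zpow_add, ← _root_.zpow_add]
  simp [sumPr, pr, add_assoc]

theorem tau_sq : (tau : GK) * tau = 1 := by
  rw [tau, ← map_mul]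
  have : (cm : Fin chevD4.rank → Kˣ) * cm = 1 := by funext i; simp [cm]
  rw [this, map_one]

variable [CharP K 3]

theorem neg_one_ne : (-1 : Kˣ) ≠ 1 := by
  intro e
  have h : (-1 : K) = 1 := by simpa using congrArg Units.val e
  have h2 : ((2 : ℕ) : K) = 0 := by push_cast; linear_combination -h
  rw [CharP.cast_eq_zero_iff K 3] at h2
  norm_num at h2

/-- The elements of the two classes in the Levi factor. -/
noncomputable def Xe (e : Fin 2) : GK := phiP 3 (Pm e) * tau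

theorem tau_phiP (S : S3) : (tau : GK) * phiP 3 S = phiP 3 (sg S) * tau := by
  refine sl2_induction 3 (P := fun S => (tau : GK) * phiP 3 S = phiP 3 (sg S) * tau)
    (fun t => ?_) (fun t => ?_) ?_ ?_ S
  · rw [sg_up, phiP_up, phiP_up, tau,
      torusHom_conj facts_chevD4.{u} _ (lt_nroots (r := 14) (by norm_num)), chiU_cm,
      parity_facts.2.2.2.1, map_neg]
    simp
  · rw [sg_lo, phiP_lo, phiP_lo, tau,
      torusHom_conj facts_chevD4.{u} _ (lt_nroots (r := 9) (by norm_num)), chiU_cm,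
      parity_facts.2.2.2.2, map_neg]
    simp
  · simp
  · intro x y hx hy
    rw [map_mul, map_mul, map_mul, ← mul_assoc, hx, mul_assoc, hy, mul_assoc]

theorem mul_Xe (A B : S3) :
    (phiP 3 A * tau) * (phiP 3 B * tau) = (phiP 3 (A * sg B) : GK) := by
  rw [mul_assoc, ← mul_assoc tau, tau_phiP, mul_assoc, tau_sq, mul_one, ← map_mul]

theorem phiP_negOne : (phiP 3 negOne : GK) = torusHom (Pi.mulSingle ⟨1, by decide +kernel⟩ (-1)) := by
  have hi : (1 : ℕ) < chevD4.rank := by decide +kernel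
  rw [← coH_simple facts_chevD4.{u} hi, ← hG_eq_torus facts_chevD4.{u} ((facts_chevD4.{u}).simple_lt 1 hi),
    facts3.2.2.2, map_mul, map_mul, map_mul, phiP_up, phiP_lo]
  have h14 : chevD4.simple 1 = 14 := by decide +kernel
  rw [h14]
  simp only [hG, nG, mid_facts.2.1, Units.val_neg, Units.val_one, inv_neg, inv_one, neg_neg, map_one,
    map_neg]

theorem Xe_pow (e : Fin 2) : (Xe e : GK) * Xe e * (Xe e * Xe e) =
    torusHom (Pi.mulSingle ⟨1, by decide +kernel⟩ (-1)) := by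
  rw [Xe, mul_Xe, ← map_mul, facts3.1, phiP_negOne]

theorem Xe_eight : (Xe 0 : GK) ^ 8 = 1 := by
  have h : (Xe 0 : GK) ^ 4 = phiP 3 negOne := by
    rw [pow_succ, pow_succ, pow_two, mul_assoc (Xe 0 * Xe 0), Xe_pow, phiP_negOne]
  rw [show (8 : ℕ) = 4 * 2 from rfl, pow_mul, h, pow_two, ← map_mul, facts3.2.2.1, map_one]

variable (φ : K →+* K) (hφ : ∀ t, (φ ^ 3) t = t)

local notation "TT" => twistD4 K φ hφ
local notation "OO" => opp φ hφ

omit [CharP K 3] in
theorem cm_mem : cm ∈ (TT).cfix := by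
  rw [(TT).mem_cfix]
  funext i
  exact Units.ext (by simp [Twist.σt, cm])

theorem Xe_mem (e : Fin 2) : Xe e ∈ HH φ hφ :=
  Subgroup.mul_mem _ (phiP_mem φ hφ 3 _) (torus_mem_HH φ hφ ((TT).mem_T1.2 ⟨_, cm_mem φ hφ, rfl⟩))

theorem fixed_eq_one (e : Fin 2) {Ls : List ℕ}
    (hLs : Ls = [17, 20, 21] ∨ Ls = [17, 20, 21].map chevD4.neg) {t : ℕ → K}
    (h : Xe e * lprod Ls t = lprod Ls t * Xe e) : lprod Ls t = (1 : GK) := by
  have hmem : ∀ r ∈ Ls, r ∈ [17, 20, 21] ++ [17, 20, 21].map chevD4.neg := fun r hr => by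
    rcases hLs with rfl | rfl
    · exact List.mem_append_left _ hr
    · exact List.mem_append_right _ hr
  have hside : ∀ r ∈ Ls, ∀ s ∈ Ls, (r < 12 ↔ s < 12) := by
    rcases hLs with rfl | rfl <;> decide +kernel
  have hcomm : ∀ r ∈ Ls, ∀ s ∈ Ls, ∀ x y : K,
      Commute (xG facts_chevD4.{u} r x : GK) (xG facts_chevD4.{u} s y) := fun r hr s hs x y => by
    obtain ⟨hr1, -, -, hrs⟩ := parity_facts.2.1 r (hmem r hr)
    exact (xG_commute_of facts_chevD4.{u} (lt_nroots hr1)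
      (lt_nroots (parity_facts.2.1 s (hmem s hs)).1) (hrs s (hmem s hs) (hside r hr s hs)) x y).symm
  have hneg : ∀ r ∈ Ls, ∀ x : K, Xe e * xG facts_chevD4.{u} r x =
      xG facts_chevD4.{u} r (-x) * (Xe e : GK) := fun r hr x => by
    obtain ⟨hr1, hodd, hc, -⟩ := parity_facts.2.1 r (hmem r hr)
    rw [Xe, mul_assoc, tau, torusHom_conj facts_chevD4.{u} _ (lt_nroots hr1), chiU_cm,
      hodd.neg_one_zpow, Units.val_neg, Units.val_one, neg_one_mul, ← mul_assoc, phiP,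
      MonoidHom.comp_apply, (phi_commute hr1 hc _ _).eq, mul_assoc]
  have hinv : Xe e * lprod Ls t * (Xe e)⁻¹ = lprod Ls (fun r => -t r) := by
    rw [← MulAut.conj_apply, lprod, lprod, map_list_prod, List.map_map]
    refine congrArg List.prod (List.map_congr_left fun r hr => ?_)
    rw [Function.comp_apply, MulAut.conj_apply, hneg r hr, mul_inv_cancel_right]
  rw [h, mul_inv_cancel_right] at hinv
  obtain ⟨a, b, c, rfl⟩ : ∃ a b c, Ls = [a, b, c] := by rcases hLs with rfl | rfl <;> exact ⟨_, _, _, rfl⟩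
  have hab := hcomm a (by simp) b (by simp)
  have hac := hcomm a (by simp) c (by simp)
  have hbc := hcomm b (by simp) c (by simp)
  simp only [lprod, List.map_cons, List.map_nil, List.prod_cons, List.prod_nil, mul_one] at hinv ⊢
  set A : GK := xG facts_chevD4.{u} a (t a) with hA
  set B : GK := xG facts_chevD4.{u} b (t b) with hB
  set C : GK := xG facts_chevD4.{u} c (t c) with hC
  have cAB : Commute A B := hab _ _
  have cAC : Commute A C := hac _ _
  have cBC : Commute B C := hbc _ _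
  rw [← xG_inv, ← xG_inv, ← xG_inv, ← hA, ← hB, ← hC] at hinv
  have hcube : (A * (B * C)) ^ 3 = 1 := by
    have h3 : (3 : K) = 0 := CharP.cast_eq_zero K 3
    have hx : ∀ r (x : K), (xG facts_chevD4.{u} r x : GK) ^ 3 = 1 := fun r x => by
      rw [pow_succ, pow_two, xG_mul, xG_mul, show x + x + x = 0 by linear_combination x * h3, xG_zero]
    rw [(cAB.mul_right cAC).mul_pow, cBC.mul_pow, hx, hx, hx, one_mul, one_mul]
  have hsq : (A * (B * C)) ^ 2 = 1 := by
    have : A⁻¹ * (B⁻¹ * C⁻¹) = (A * (B * C))⁻¹ := by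
      rw [_root_.mul_inv_rev, _root_.mul_inv_rev, cBC.inv_inv.eq]
      exact (cAC.inv_inv.mul_right cAB.inv_inv).eq
    rw [pow_two]
    nth_rewrite 2 [hinv]
    rw [this, mul_inv_cancel]
  calc A * (B * C) = (A * (B * C)) ^ 3 * ((A * (B * C)) ^ 2)⁻¹ := by group
    _ = 1 := by rw [hcube, hsq, inv_one, one_mul]

theorem adm_Xe (e : Fin 2) : Adm φ hφ (Xe e) := by
  set d : Fin chevD4.rank → Kˣ := Pi.mulSingle ⟨1, by decide +kernel⟩ (-1) with hd
  have hchi : ∀ r : ℕ, chiU d r = (-1) ^ chevD4.cartan 1 r := fun r =>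
    chiU_mulSingle (by decide +kernel) _ _
  have comm : ∀ w : GK, Xe e * w = w * Xe e → torusHom d * w = w * torusHom d := by
    intro w h
    rw [hd, ← Xe_pow e]
    exact (((Commute.mul_left h h).mul_left (Commute.mul_left h h))).eq
  refine ⟨Xe_mem φ hφ e, fun w hw h => ?_, fun w hw h => ?_⟩
  · obtain ⟨t, ht, rfl⟩ := supp_pos φ hφ (d := d) (Ls := [17, 20, 21]) (fun r h1 h2 h3 => by
      rw [hchi, (parity_facts.1 r h1 h2 h3).1.neg_one_zpow]; exact neg_one_ne) hw (comm w h)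
    rw [prodFrom_eq_lprod (Or.inl rfl) ht] at h ⊢
    exact fixed_eq_one e (Or.inl rfl) h
  · obtain ⟨t, rfl⟩ := supp_neg φ hφ (d := d) (Or.inl rfl) (fun r h1 h2 h3 => by
      rw [hchi, (parity_facts.1 r h1 h2 h3).2.neg_one_zpow]; exact neg_one_ne) hw (comm w h)
    exact fixed_eq_one e (Or.inr rfl) h

theorem mem_Xe (e : Fin 2) : Mem φ hφ (Xe 0) (Xe e) := by
  refine ⟨adm_Xe φ hφ e, ?_⟩
  fin_cases e
  · exact ⟨1, Subgroup.one_mem _, by simp⟩
  refine ⟨nC φ hφ, nC_mem φ hφ, ?_⟩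
  show Xe 1 = nC φ hφ * Xe 0 * (nC φ hφ)⁻¹
  set ws : List (Fin 2) := [0, 1]
  set π : Equiv.Perm (Fin chevD4.nroots) :=
    (TT).pW ws * (TT).wA (0 : Fin 2) * ((TT).pW ws)⁻¹ with hπ
  have hmon : IsMon (TT).hF (nC φ hφ) π := isMon_mul (TT).hF
    (isMon_mul (TT).hF ((TT).isMon_nW ws) ((TT).isMon_nA (0 : Fin 2)))
    (isMon_inv' (TT).hF ((TT).isMon_nW ws))
  have hval : ∀ r, ((π r : Fin chevD4.nroots) : ℕ) = wv [0, 1, 0, 1, 0] r := by
    intro r
    have e1 : π = (TT).pW ([0, 1, 0, 1, 0] : List (Fin 2)) := by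
      have a1 := (TT).pW_append ws ([0, 1, 0] : List (Fin 2))
      have a2 := (TT).pW_cons (0 : Fin 2) ([1, 0] : List (Fin 2))
      have a3 := (TT).pW_reverse ws
      calc π = (TT).pW ws * ((TT).wA (0 : Fin 2) * ((TT).pW ws)⁻¹) := by rw [hπ, mul_assoc]
        _ = (TT).pW ws * (TT).pW ([0, 1, 0] : List (Fin 2)) :=
            congrArg _ ((congrArg _ a3).trans a2.symm)
        _ = _ := a1.symm
    exact (congrArg (fun p : Equiv.Perm (Fin chevD4.nroots) => (p r : ℕ)) e1).trans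
      (pW_val' φ hφ [0, 1, 0, 1, 0] r)
  obtain ⟨e', he'⟩ := CentTorus.exists_conj_torus (TT).hF
    ((TT).N1_le_monomial (Subgroup.mul_mem _ (Subgroup.mul_mem _ ((TT).nW_mem_N1 ws)
      ((TT).nA_mem_N1 (0 : Fin 2))) (Subgroup.inv_mem _ ((TT).nW_mem_N1 ws)))) cm
  change nC φ hφ * torusHom cm = torusHom e' * nC φ hφ at he'
  have htau : (torusHom e' : GK) = phiP 3 negOne * tau := by
    rw [phiP_negOne, tau, ← map_mul]
    refine mul_inv_eq_one.1 ?_
    rw [← map_inv, ← map_mul, torusHom_eq_one_iff]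
    intro s
    obtain ⟨r, rfl⟩ := π.surjective s
    have hce := CentTorus.chiU_conj (TT).hF hmon he' r
    have hmul : ∀ c d : Fin chevD4.rank → Kˣ, ∀ s, chiU (c * d) s = chiU c s * chiU d s :=
      fun c d s => by simp [chiU, mul_zpow, Finset.prod_mul_distrib]
    have hinv : ∀ c : Fin chevD4.rank → Kˣ, ∀ s, chiU c⁻¹ s = (chiU c s)⁻¹ :=
      fun c s => by simp [chiU]
    rw [hmul, hinv, hmul, hce, chiU_mulSingle (by decide +kernel), chiU_cm, chiU_cm, hval,
      ← _root_.zpow_add, ← _root_.zpow_neg, ← _root_.zpow_add]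
    refine Even.neg_one_zpow ?_
    have := (parity_facts.2.2.1 r).neg
    rw [Int.even_iff] at this ⊢
    omega
  have hc := nC_phiP φ hφ 3 (Pm 0)
  calc Xe 1 = phiP 3 (Pm 0) * (phiP 3 negOne * tau) := by
        rw [Xe, ← facts3.2.1, map_mul, show sg negOne = negOne by decide +kernel, mul_assoc]
    _ = phiP 3 (Pm 0) * (nC φ hφ * torusHom cm * (nC φ hφ)⁻¹) := by
        rw [he', mul_inv_cancel_right, htau]
    _ = _ := by
        rw [Xe, tau, ← mul_assoc, ← mul_assoc, ← hc.eq]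
        group

/-- The element of order eight. -/
theorem cover_three [Fintype K] (hfix : ∀ t, φ t = t ^ 3) :
    ∃ x ∈ (TT).G1, x ^ 8 = 1 ∧ ∀ g ∈ (TT).G1, g ≠ 1 →
      ∃ a ∈ (TT).G1, ∃ b ∈ (TT).G1, g = (a * x * a⁻¹) * (b * x * b⁻¹) := by
  refine ⟨Xe 0, (Xe_mem φ hφ 0).1, Xe_eight, fun g hg hne => ?_⟩
  obtain ⟨u, hu, v, hv, hcj⟩ := gauss φ hφ hg hne (Subgroup.one_mem _)
  obtain ⟨u1, hu1, v1, hv1, c, a, hc, ha, e⟩ := middle φ hφ (t := 1) hu hv
  rw [e] at hcj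
  have hsur : ∀ x : K, φ x = x → ∃ m : ZMod 3, iota 3 m = x := by
    intro x hx
    rw [hfix] at hx
    have : x * ((x - 1) * (x + 1)) = 0 := by linear_combination hx
    rcases mul_eq_zero.1 this with h | h
    · exact ⟨0, by simp [h]⟩
    · rcases mul_eq_zero.1 h with h | h
      · exact ⟨1, by rw [map_one]; linear_combination -h⟩
      · exact ⟨-1, by rw [map_neg, map_one]; linear_combination -h⟩
  obtain ⟨c', rfl⟩ := hsur c hc
  obtain ⟨a', rfl⟩ := hsur a ha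
  obtain ⟨A, B, i, j, hAB⟩ := table3 c' a'
  have hQ : ∀ (S : S3) (i : Fin 2), phiP 3 S * Xe i * (phiP 3 S)⁻¹ = (phiP 3 (Qm S i) * tau : GK) := by
    intro S i
    rw [Xe, ← map_inv, mul_assoc, mul_assoc, tau_phiP, Qm, map_mul, map_mul]
    simp [mul_assoc]
  refine product φ hφ ((mem_Xe φ hφ i).conj φ hφ (phiP_mem φ hφ 3 A))
    ((mem_Xe φ hφ j).conj φ hφ (phiP_mem φ hφ 3 B)) hu1 hv1 ?_
  rw [hQ, hQ, mul_Xe, ← hAB, map_mul, phiP_lo, phiP_up]
  simpa using hcj

end Cfsg.Agent.D4Square
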