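import Cfsg.Agent.D4Square.Gauss
import Cfsg.Agent.Chev.RegularTorus
import Cfsg.Agent.Chev.CentralizerTorus
import Mathlib.RingTheory.IntegralDomain

/-!
Two conjugates of a regular element of the split torus of ³D₄(q) give every non-identity element.
-/

set_option autoImplicit false
set_option maxRecDepth 100000
set_option maxHeartbeats 1000000

namespace Cfsg.Agent.D4Square

open Cfsg.Lie Cfsg.Agent.Chev
open scoped MatrixGroups

universe u

/-- Normalised and with trivial centraliser in a finite subgroup: all of the coset is conjugate. -/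
theorem twist_surj {G : Type*} [Group G] {S : Subgroup G} [Finite S] {x : G}
    (hnorm : ∀ w ∈ S, x⁻¹ * w * x ∈ S) (htriv : ∀ w ∈ S, x * w = w * x → w = 1)
    {v : G} (hv : v ∈ S) : ∃ w ∈ S, x * v = w * x * w⁻¹ := by
  let f : S → S := fun w => ⟨x⁻¹ * (w : G) * x * (w : G)⁻¹,
    Subgroup.mul_mem _ (hnorm _ w.2) (Subgroup.inv_mem _ w.2)⟩
  have hinj : Function.Injective f := by
    intro a b e
    have e' : x⁻¹ * (a : G) * x * (a : G)⁻¹ = x⁻¹ * (b : G) * x * (b : G)⁻¹ :=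
      congrArg Subtype.val e
    have hc : x * ((b : G)⁻¹ * a) = (b : G)⁻¹ * a * x := by
      calc x * ((b : G)⁻¹ * a) = (b : G)⁻¹ * (x * (x⁻¹ * (b : G) * x * (b : G)⁻¹)) * a := by group
        _ = (b : G)⁻¹ * (x * (x⁻¹ * (a : G) * x * (a : G)⁻¹)) * a := by rw [e']
        _ = _ := by group
    have := htriv _ (Subgroup.mul_mem _ (Subgroup.inv_mem _ b.2) a.2) hc
    exact Subtype.ext (inv_mul_eq_one.1 this).symm
  obtain ⟨w, hw⟩ := Finite.surjective_of_injective hinj ⟨v, hv⟩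
  exact ⟨w, w.2, by rw [← show x⁻¹ * (w : G) * x * (w : G)⁻¹ = v from congrArg Subtype.val hw]; group⟩

theorem twist_surj_left {G : Type*} [Group G] {S : Subgroup G} [Finite S] {x : G}
    (hnorm : ∀ w ∈ S, x⁻¹ * w * x ∈ S) (htriv : ∀ w ∈ S, x * w = w * x → w = 1)
    {u : G} (hu : u ∈ S) : ∃ w ∈ S, u * x = w * x * w⁻¹ := by
  obtain ⟨w, hw, e⟩ := twist_surj hnorm htriv (hnorm u hu)
  exact ⟨w, hw, by rw [← e]; group⟩

variable {K : Type u} [Field K] (φ : K →+* K) (hφ : ∀ t, (φ ^ 3) t = t)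

local notation "TT" => twistD4 K φ hφ

/-- The pairings of a root with the simple coroots. -/
def pr (r : ℕ) : List ℤ := [chevD4.cartan 0 r, chevD4.cartan 1 r, chevD4.cartan 2 r, chevD4.cartan 3 r]

/-- The pairings of representatives of the positive roots. -/
def prReps : List (List ℤ) :=
  [[2, -1, 0, 0], [1, 1, -1, -1], [1, 0, 1, -1], [-1, 2, -1, -1], [1, -1, 1, 1], [0, 1, 0, 0]]

theorem roots_reps : ∀ r : Fin chevD4.nroots, half chevD4 ≤ (r : ℕ) →
    pr r ∈ prReps ∨ pr (d4_031_ρ r) ∈ prReps ∨ pr (d4_031_ρ (d4_031_ρ r)) ∈ prReps := by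
  decide +kernel

theorem chiU_rho {c : Fin chevD4.rank → Kˣ} (hc : c ∈ (TT).cfix) (r : Fin chevD4.nroots) :
    chiU c (d4_031_ρ r) = Units.map φ.toMonoidHom (chiU c r) := by
  have h : c = fun i => Units.map φ.toMonoidHom (c (d4_031_π.symm i)) := ((TT).mem_cfix.1 hc).symm
  conv_lhs => rw [h]
  rw [show chiU (fun i => Units.map φ.toMonoidHom (c (d4_031_π.symm i))) (d4_031_ρ r) =
    Units.map φ.toMonoidHom (chiU (fun i => c (d4_031_π.symm i)) (d4_031_ρ r)) by
      simp [chiU, map_prod]]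
  exact congrArg _ ((TT).chiU_perm c r)

theorem not_dvd_of_between {M E k : ℤ} (h1 : k * M < E) (h2 : E < (k + 1) * M) : ¬ M ∣ E := by
  rintro ⟨d, rfl⟩
  rcases lt_or_ge d (k + 1) with h | h
  · rcases le_or_gt 0 M with hM | hM <;> nlinarith
  · rcases le_or_gt 0 M with hM | hM <;> nlinarith

variable [Fintype K] {q : ℕ}

theorem exists_regular (hq4 : 4 ≤ q) (hK : Fintype.card K = q ^ 3) (hqφ : ∀ t, φ t = t ^ q) :
    ∃ c ∈ (TT).cfix, ∀ r : Fin chevD4.nroots, chiU c (r : ℕ) ≠ 1 := by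
  classical
  obtain ⟨z, hz⟩ := IsCyclic.exists_generator (α := Kˣ)
  have hord : orderOf z = q ^ 3 - 1 := by
    rw [orderOf_eq_card_of_forall_mem_zpowers hz, Nat.card_units, Nat.card_eq_fintype_card, hK]
  have hq3 : 1 ≤ q ^ 3 := Nat.one_le_pow _ _ (by omega)
  have hM : ((orderOf z : ℕ) : ℤ) = (q : ℤ) ^ 3 - 1 := by rw [hord]; push_cast [hq3]; rfl
  set P : ℤ := (q : ℤ) ^ 2 + q + 1 with hP
  set u : Kˣ := z ^ ((q : ℤ) - 1) with hu
  set v : Kˣ := z ^ P with hv
  have hmap : ∀ w : Kˣ, Units.map φ.toMonoidHom w = w ^ (q : ℤ) := fun w =>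
    Units.ext (by rw [zpow_natCast, Units.val_pow_eq_pow_val]; exact hqφ _)
  have hvfix : (TT).Par (1 : Fin 2) (v : K) := by
    have h : Units.map φ.toMonoidHom v = v := by
      rw [hmap, hv, ← zpow_mul, zpow_eq_zpow_iff_modEq, Int.modEq_iff_dvd, hM]
      exact ⟨-1, by rw [hP]; ring⟩
    show (φ ^ d4Len 1) (v : K) = v
    rw [show d4Len (1 : Fin 2) = 1 from rfl, pow_one]
    exact congrArg Units.val h
  have hufix : (TT).Par (0 : Fin 2) (u : K) := hφ _
  set c := (TT).hv (0 : Fin 2) u * (TT).hv (1 : Fin 2) v with hcdef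
  have hc : c ∈ (TT).cfix := Subgroup.mul_mem _ ((TT).hv_mem hufix) ((TT).hv_mem hvfix)
  refine ⟨c, hc, ?_⟩
  -- the values at the nodes
  have hnode : ∀ j : Fin 3, ((TT).node (0 : Fin 2) j : ℕ) = [0, 2, 3].getD j 0 :=
    (by decide +kernel : ∀ j : Fin 3, ((orbNode d4_031_π d4Base (0 : Fin 2) j : Fin chevD4.rank) : ℕ) =
      [0, 2, 3].getD j 0)
  have hnode1 : ((TT).node (1 : Fin 2) 0 : ℕ) = 1 :=
    (by decide +kernel : ((orbNode d4_031_π d4Base (1 : Fin 2) 0 : Fin chevD4.rank) : ℕ) = 1)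
  have h0 : ∀ j : Fin 3, c ((TT).node (0 : Fin 2) j) = u ^ ((q : ℤ) ^ (j : ℕ)) := by
    intro j
    have e1 := (TT).hv_node (0 : Fin 2) u (j := (j : ℕ)) j.2
    have e2 := (TT).hv_other (a := (1 : Fin 2)) v (i := (TT).node (0 : Fin 2) j) (fun l hl e =>
      Fin.zero_ne_one (((TT).node_inj (b := (0 : Fin 2)) hl j.2 e).1).symm)
    refine (congrArg₂ (· * ·) e1 e2).trans ((mul_one _).trans ?_)
    fin_cases j
    · exact Units.ext (by simp)
    · simp only [pow_one]; exact (hmap u).trans (by simp)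
    · refine Units.ext ?_
      show (φ ^ 2) (u : K) = _
      rw [pow_two, RingHom.mul_def, RingHom.comp_apply, hqφ, hqφ, ← pow_mul, ← Units.val_pow_eq_pow_val]
      congr 1
      rw [← zpow_natCast]
      push_cast
      ring_nf
  have h1 : c ((TT).node (1 : Fin 2) 0) = v := by
    have e1 := (TT).hv_node (1 : Fin 2) v (j := 0) (Nat.one_pos : 0 < d4Len 1)
    have e2 := (TT).hv_other (a := (0 : Fin 2)) u (i := (TT).node (1 : Fin 2) 0) (fun l hl e =>
      Fin.zero_ne_one ((TT).node_inj (b := (1 : Fin 2)) hl (Nat.one_pos : 0 < d4Len 1) e).1)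
    refine (congrArg₂ (· * ·) e2 e1).trans ((one_mul _).trans ?_)
    exact Units.ext (by simp)
  have hchi : ∀ r : ℕ, chiU c r = z ^ (((q : ℤ) - 1) * chevD4.cartan 0 r + P * chevD4.cartan 1 r +
      ((q : ℤ) - 1) * q * chevD4.cartan 2 r + ((q : ℤ) - 1) * q ^ 2 * chevD4.cartan 3 r) := by
    intro r
    have hval : ∀ i : Fin 4, c i = [u, v, u ^ (q : ℤ), u ^ ((q : ℤ) ^ 2)].getD (i : ℕ) 1 := by
      intro i
      fin_cases i
      · exact ((congrArg c (Fin.ext (hnode 0).symm)).trans (h0 0)).trans (by simp)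

      · exact (congrArg c (Fin.ext hnode1.symm)).trans h1
      · exact ((congrArg c (Fin.ext (hnode 1).symm)).trans (h0 1)).trans (by simp)
      · exact ((congrArg c (Fin.ext (hnode 2).symm)).trans (h0 2)).trans (by simp)
    show ∏ j : Fin 4, c j ^ chevD4.cartan j r = _
    rw [Fin.prod_univ_four, hval, hval, hval, hval, hu, hv]
    simp [← zpow_mul, ← zpow_add, mul_assoc]
    rw [← zpow_natCast (z ^ ((q : ℤ) - 1)) q, ← zpow_mul, ← zpow_mul, ← zpow_add, ← zpow_add]
    ring_nf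
  have hreps : ∀ r : ℕ, pr r ∈ prReps → chiU c r ≠ 1 := by
    intro r hr e
    rw [hchi, ← orderOf_dvd_iff_zpow_eq_one, hM] at e
    have hq' : (4 : ℤ) ≤ q := by exact_mod_cast hq4
    simp only [prReps, pr, List.mem_cons, List.not_mem_nil, or_false, List.cons.injEq, and_true] at hr
    rcases hr with h | h | h | h | h | h <;> obtain ⟨a, b, c', d⟩ := h <;> rw [a, b, c', d] at e
    · exact not_dvd_of_between (k := -1) (by nlinarith [mul_nonneg (sub_nonneg.2 hq') (sq_nonneg (q : ℤ))]) (by nlinarith [mul_nonneg (sub_nonneg.2 hq') (sq_nonneg (q : ℤ)), mul_nonneg (sub_nonneg.2 hq') (sub_nonneg.2 hq')]) e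
    · exact not_dvd_of_between (k := -1) (by nlinarith) (by nlinarith) e
    · exact not_dvd_of_between (k := -1) (by nlinarith) (by nlinarith) e
    · exact not_dvd_of_between (k := -1) (by nlinarith) (by nlinarith) e
    · exact not_dvd_of_between (k := 0) (by nlinarith) (by nlinarith) e
    · exact not_dvd_of_between (k := 0) (by nlinarith) (by nlinarith) e
  have hpos : ∀ r : Fin chevD4.nroots, half chevD4 ≤ (r : ℕ) → chiU c (r : ℕ) ≠ 1 := by
    intro r hr e
    rcases roots_reps r hr with h | h | h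
    · exact hreps _ h e
    · exact hreps _ h (by rw [chiU_rho φ hφ hc, e, map_one])
    · exact hreps _ h (by rw [chiU_rho φ hφ hc, chiU_rho φ hφ hc, e, map_one, map_one])
  intro r e
  by_cases hr : half chevD4 ≤ (r : ℕ)
  · exact hpos r hr e
  · refine hpos (negF (TT).hF r) ((pos_negF_iff _ r).2 (not_le.1 hr)) ?_
    rw [show ((negF (TT).hF r : Fin chevD4.nroots) : ℕ) = chevD4.neg r from rfl,
      chiU_neg (TT).hF c r.2, e, inv_one]

omit [Fintype K] in
theorem pos_regular {c : Fin chevD4.rank → Kˣ} (hc : ∀ r : Fin chevD4.nroots, chiU c (r : ℕ) ≠ 1)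
    {w : GL chevD4.Idx K} (hw : w ∈ chevD4.posUnipotent K) (h : torusHom c * w = w * torusHom c) :
    w = 1 := by
  rw [posUnipotent_eq facts_chevD4.{u}] at hw
  obtain ⟨t, rfl⟩ := exists_prodFrom facts_chevD4.{u} _ _ rfl le_rfl w hw
  exact prodFrom_eq_one_of_comm facts_chevD4.{u} hc h

include hφ in
/-- The class of a regular element of the split torus. -/
theorem regular_cover {c : Fin chevD4.rank → Kˣ} (hc : c ∈ (TT).cfix)
    (hreg : ∀ r : Fin chevD4.nroots, chiU c (r : ℕ) ≠ 1) {g : GL chevD4.Idx K} (hg : g ∈ (TT).G1)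
    (hne : g ≠ 1) : ∃ a ∈ (TT).G1, ∃ b ∈ (TT).G1,
      g = (a * torusHom c * a⁻¹) * (b * torusHom c * b⁻¹) := by
  set O := opp φ hφ
  have hcT : (torusHom c : GL chevD4.Idx K) ∈ (TT).T1 := (TT).mem_T1.2 ⟨c, hc, rfl⟩
  obtain ⟨u, hu, v, hv, e, he, heq⟩ := gauss φ hφ hg hne (Subgroup.mul_mem _ hcT hcT)
  obtain ⟨e', he', en⟩ := (TT).torus_nW hcT O.ws
  obtain ⟨d, hd, rfl⟩ := (TT).mem_T1.1 he'
  have hregd : ∀ r : Fin chevD4.nroots, chiU d (r : ℕ) ≠ 1 := fun r => by
    rw [← CentTorus.chiU_conj (TT).hF ((TT).isMon_nW O.ws) en.symm r]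
    exact hreg _
  obtain ⟨a, ha, ha'⟩ := twist_surj_left (S := (TT).oppU O) (x := (torusHom c : GL chevD4.Idx K))
    (fun w hw => by
      rw [(TT).mem_V1] at hw ⊢
      have := (TT).torus_conj_U1' he' hw
      convert this using 1
      calc O.n⁻¹ * ((torusHom c)⁻¹ * w * torusHom c) * O.n
          = (O.n⁻¹ * (torusHom c * O.n))⁻¹ * (O.n⁻¹ * w * O.n) * (O.n⁻¹ * (torusHom c * O.n)) := by group
        _ = _ := by rw [en]; group)
    (fun w hw h => by
      rw [(TT).mem_V1] at hw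
      have h2 := pos_regular hregd hw.1 (by
        calc torusHom d * (O.n⁻¹ * w * O.n) = O.n⁻¹ * (O.n * torusHom d) * O.n⁻¹ * w * O.n := by group
          _ = O.n⁻¹ * (torusHom c * w) * O.n := by rw [← en]; group
          _ = O.n⁻¹ * w * (torusHom c * O.n) := by rw [h]; group
          _ = _ := by rw [en]; group)
      calc w = O.n * (O.n⁻¹ * w * O.n) * O.n⁻¹ := by group
        _ = 1 := by rw [h2]; group) hu
  obtain ⟨b, hb, hb'⟩ := twist_surj (S := (TT).U1) (x := (torusHom c : GL chevD4.Idx K))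
    (fun w hw => (TT).torus_conj_U1' hcT hw) (fun w hw h => pos_regular hreg hw.1 h) hv
  refine ⟨e⁻¹ * a, Subgroup.mul_mem _ (Subgroup.inv_mem _ he) ((TT).oppU_le_G1 O ha),
    e⁻¹ * b, Subgroup.mul_mem _ (Subgroup.inv_mem _ he) ((TT).U1_le_G1 hb), ?_⟩
  calc g = e⁻¹ * (e * g * e⁻¹) * e := by group
    _ = e⁻¹ * ((u * torusHom c) * (torusHom c * v)) * e := by rw [heq]; group
    _ = _ := by rw [ha', hb']; group

end Cfsg.Agent.D4Square
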