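import Cfsg.Agent.D4Square.Levi

/-!
An element of order twenty-one of ³D₄(2) whose class squared covers every non-identity element.
-/

set_option autoImplicit false
set_option maxRecDepth 100000
set_option maxHeartbeats 1000000

namespace Cfsg.Agent.D4Square

open Cfsg.Lie Cfsg.Agent.Chev Matrix
open scoped MatrixGroups

universe u

local notation "S2" => SpecialLinearGroup (Fin 2) (ZMod 2)

/-- An element of order three. -/
def sS : S2 := loS 1 * upS 1

theorem facts2 : sS ^ 3 = 1 ∧ loS 1 * sS * (loS 1)⁻¹ = sS⁻¹ ∧ (loS (1 : ZMod 2))⁻¹ = loS 1 ∧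
    loS 1 * (upS 1 * loS 1 * upS 1) * loS 1 = upS (1 : ZMod 2) ∧
    upS 1 * loS 1 * upS 1 * upS 1 = upS (1 : ZMod 2) * loS 1 := by
  refine ⟨?_, ?_, ?_, ?_, ?_⟩ <;> decide +kernel

/-- The good middle parts. -/
def GoodM (M : S2) : Prop := ∃ A B : S2, M = (A * sS * A⁻¹) * (B * sS * B⁻¹)

theorem good_same : ∀ c : ZMod 2, GoodM (loS c * upS c) := by
  intro c
  fin_cases c
  · exact ⟨1, loS 1, by decide +kernel⟩
  · exact ⟨loS 1, loS 1, by decide +kernel⟩

theorem good_swap : GoodM (upS 1 * loS 1) := ⟨1, 1, by decide +kernel⟩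

/-- The exponent of a parameter of the short orbit at a root. -/
def expo (r : ℕ) : ℤ := chevD4.cartan 0 r + 2 * chevD4.cartan 2 r + 4 * chevD4.cartan 3 r

theorem expo_facts :
    (∀ r : Fin chevD4.nroots, 12 ≤ (r : ℕ) → (r : ℕ) ≠ 14 → (r : ℕ) ∉ [22, 23] →
      ¬ (7 : ℤ) ∣ expo r ∧ ¬ (7 : ℤ) ∣ expo (chevD4.neg r)) ∧
    ∀ r ∈ [22, 23, 0, 1], (7 : ℤ) ∣ expo r := by decide +kernel

theorem long_terms :
    ∀ p ∈ [(22, 23), (0, 1)], (∃ c ∈ ([1, -1] : List ℤ), chevD4.commTerms 14 p.1 = [(p.2, c, 1, 1)]) ∧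
      (∃ c ∈ ([1, -1] : List ℤ), chevD4.commTerms 9 p.2 = [(p.1, c, 1, 1)]) ∧
      p.1 ≠ 14 ∧ p.1 ≠ 9 ∧ p.2 ≠ 14 ∧ p.2 ≠ 9 ∧
      chevD4.commTerms 14 p.2 = [] ∧ chevD4.commTerms 9 p.1 = [] ∧
      p.2 ≠ chevD4.neg p.1 ∧ chevD4.commTerms p.1 p.2 = [] := by
  decide +kernel

variable {K : Type u} [Field K] [CharP K 2]

local notation "GK" => GL chevD4.Idx K

theorem neg_eq' (x : K) : -x = x := by
  have h : (2 : K) = 0 := CharP.cast_eq_zero K 2
  linear_combination -x * h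

theorem act {b r s : ℕ} (hb : b = 14 ∨ b = 9) (hbn : chevD4.neg b = 23 - b) (hr : r < 24)
    (hne : r ≠ 14 ∧ r ≠ 9) {c : ℤ} (hc : c = 1 ∨ c = -1)
    (h : chevD4.commTerms b r = [(s, c, 1, 1)]) (f : K) :
    xG facts_chevD4.{u} b (1 : K) * xG facts_chevD4.{u} r f * (xG facts_chevD4.{u} b 1)⁻¹ =
      (xG facts_chevD4.{u} r f * xG facts_chevD4.{u} s f : GK) := by
  have hb' : b < 24 := by omega
  have e := xG_comm facts_chevD4.{u} (lt_nroots hb') (lt_nroots hr) (by omega)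
    (by rw [hbn]; omega) (1 : K) f
  have hw : wordG facts_chevD4.{u} (chevD4.commWord K b r 1 f) = xG facts_chevD4.{u} s f := by
    rw [ChevalleyDatum.commWord, h]
    simp only [List.map_cons, List.map_nil, wordG, List.prod_cons, List.prod_nil, mul_one, pow_one]
    rcases hc with rfl | rfl <;> simp [neg_eq']
  rw [hw] at e
  have hinv : (xG facts_chevD4.{u} b (1 : K) : GK)⁻¹ = xG facts_chevD4.{u} b 1 := by
    rw [xG_inv, neg_eq']
  rw [mul_assoc, hinv, e, mul_assoc (xG facts_chevD4.{u} b (1 : K)), ← mul_assoc, ← mul_assoc]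
  nth_rewrite 1 [← hinv]
  group

theorem fixed_long {r s : ℕ} (hrs : (r, s) ∈ [(22, 23), (0, 1)]) {f g : K}
    (h : Commute (phiP 2 sS : GK) (xG facts_chevD4.{u} r f * xG facts_chevD4.{u} s g)) :
    f = 0 ∧ g = 0 := by
  have hr : r < 24 ∧ s < 24 := by simp at hrs; omega
  obtain ⟨⟨c, hc, hup⟩, ⟨c', hc', hlo⟩, h1, h2, h3, h4, hu, hl, h5, h6⟩ := long_terms _ hrs
  have hc1 : c = 1 ∨ c = -1 := by simpa using hc
  have hc2 : c' = 1 ∨ c' = -1 := by simpa using hc'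
  set U : GK := xG facts_chevD4.{u} 14 1 with hU
  set L : GK := xG facts_chevD4.{u} 9 1 with hL
  have aU : ∀ x, U * xG facts_chevD4.{u} r x * U⁻¹ =
      xG facts_chevD4.{u} r x * xG facts_chevD4.{u} s x := fun x =>
    act (Or.inl rfl) (by decide +kernel) hr.1 ⟨h1, h2⟩ hc1 hup x
  have aL : ∀ x, L * xG facts_chevD4.{u} s x * L⁻¹ =
      xG facts_chevD4.{u} s x * xG facts_chevD4.{u} r x := fun x =>
    act (Or.inr rfl) (by decide +kernel) hr.2 ⟨h3, h4⟩ hc2 hlo x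
  have cU : ∀ x, U * xG facts_chevD4.{u} s x * U⁻¹ = xG facts_chevD4.{u} s x := fun x =>
    mul_inv_eq_iff_eq_mul.2 ((xG_commute_of facts_chevD4.{u} (lt_nroots (r := 14) (by norm_num))
      (lt_nroots hr.2) (Or.inr ⟨by rw [mid_facts.2.1]; exact h4, hu⟩) 1 x).symm.eq)
  have cL : ∀ x, L * xG facts_chevD4.{u} r x * L⁻¹ = xG facts_chevD4.{u} r x := fun x =>
    mul_inv_eq_iff_eq_mul.2 ((xG_commute_of facts_chevD4.{u} (lt_nroots (r := 9) (by norm_num))
      (lt_nroots hr.1) (Or.inr ⟨by rw [show chevD4.neg 9 = 14 by decide +kernel]; exact h1, hl⟩) 1 x).symm.eq)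
  have cRS : ∀ x y, Commute (xG facts_chevD4.{u} r x : GK) (xG facts_chevD4.{u} s y) := fun x y =>
    (xG_commute_of facts_chevD4.{u} (lt_nroots hr.1) (lt_nroots hr.2) (Or.inr ⟨h5, h6⟩) x y).symm
  have hS : (phiP 2 sS : GK) = L * U := by rw [sS, map_mul, phiP_lo, phiP_up, map_one]
  have e : (xG facts_chevD4.{u} r g * xG facts_chevD4.{u} s (f + g) : GK) =
      xG facts_chevD4.{u} r f * xG facts_chevD4.{u} s g := by
    have e1 : (L * U) * (xG facts_chevD4.{u} r f * xG facts_chevD4.{u} s g) * (L * U)⁻¹ =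
        xG facts_chevD4.{u} r f * (xG facts_chevD4.{u} s (f + g) * xG facts_chevD4.{u} r (f + g)) := by
      calc (L * U) * (xG facts_chevD4.{u} r f * xG facts_chevD4.{u} s g) * (L * U)⁻¹
          = L * ((U * xG facts_chevD4.{u} r f * U⁻¹) * (U * xG facts_chevD4.{u} s g * U⁻¹)) * L⁻¹ := by
            group
        _ = L * (xG facts_chevD4.{u} r f * xG facts_chevD4.{u} s (f + g)) * L⁻¹ := by
            rw [aU, cU, mul_assoc (xG facts_chevD4.{u} r f), xG_mul]
        _ = (L * xG facts_chevD4.{u} r f * L⁻¹) * (L * xG facts_chevD4.{u} s (f + g) * L⁻¹) := by group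
        _ = _ := by rw [cL, aL]
    rw [← hS, h.eq, mul_inv_cancel_right, ← (cRS _ _).eq, ← mul_assoc, xG_mul] at e1
    refine Eq.trans ?_ e1.symm
    congr 2
    linear_combination -(f : K) * (CharP.cast_eq_zero K 2 : ((2 : ℕ) : K) = 0)
  have e2 : (xG facts_chevD4.{u} r (-f + g) : GK) = xG facts_chevD4.{u} s (g + -(f + g)) := by
    rw [← xG_mul, ← xG_mul, ← xG_inv facts_chevD4.{u} r, ← xG_inv facts_chevD4.{u} s]
    calc _ = (xG facts_chevD4.{u} r f : GK)⁻¹ * (xG facts_chevD4.{u} r g * xG facts_chevD4.{u} s (f + g)) *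
          (xG facts_chevD4.{u} s (f + g))⁻¹ := by group
      _ = _ := by rw [e]; group
  have e3 := congrArg (fun x => U * x * U⁻¹) e2
  simp only [aU, cU] at e3
  rw [e2, mul_eq_left, xG_eq_one_iff facts_chevD4.{u} (lt_nroots hr.2)] at e3
  have hgf : g = f := by linear_combination e3
  subst hgf
  rw [neg_add_cancel, xG_zero, eq_comm, xG_eq_one_iff facts_chevD4.{u} (lt_nroots hr.2)] at e2
  have h0 : g = 0 := by linear_combination -e2
  exact ⟨h0, h0⟩

variable (φ : K →+* K) (hφ : ∀ t, (φ ^ 3) t = t)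

local notation "TT" => twistD4 K φ hφ
local notation "OO" => opp φ hφ

variable (hsq : ∀ t, φ t = t ^ 2)
include hsq

theorem units_fix {u : Kˣ} (h : φ (u : K) = u) : u = 1 := by
  rw [hsq, pow_two] at h
  exact Units.ext ((mul_eq_left₀ u.ne_zero).1 h)

theorem T1_hv {z : GK} (hz : z ∈ (TT).T1) :
    ∃ w : Kˣ, z = torusHom ((TT).hv (0 : Fin 2) w) := by
  obtain ⟨c, hc, rfl⟩ := (TT).mem_T1_hv hz
  refine ⟨c ((TT).base (0 : Fin 2)), congrArg torusHom ?_⟩
  refine (Fin.prod_univ_two (fun a : Fin 2 => (TT).hv a (c ((TT).base a)))).trans ?_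
  have h1 : c ((TT).base (1 : Fin 2)) = 1 := units_fix φ hsq (by
    have h := (TT).par_base hc (1 : Fin 2)
    change (φ ^ d4Len 1) _ = _ at h
    rwa [show d4Len (1 : Fin 2) = 1 from rfl, pow_one] at h)
  have h2 : (TT).hv (1 : Fin 2) (1 : Kˣ) = 1 := by
    have := (TT).hv_map_mul (1 : Fin 2) 1 1
    rw [mul_one] at this
    exact left_eq_mul.1 this
  rw [h1, h2, mul_one]

theorem T1_central {z : GK} (hz : z ∈ (TT).T1) (S : S2) : Commute z (phiP 2 S) := by
  obtain ⟨c, hc, rfl⟩ := (TT).mem_T1.1 hz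
  have hone : ∀ s t, torusHom c * (TT).y s (1 : Fin 2) t = (TT).y s (1 : Fin 2) t * torusHom c := by
    intro s t
    have h := (TT).par_chiU hc s (1 : Fin 2)
    change (φ ^ d4Len 1) _ = _ at h
    rw [show d4Len (1 : Fin 2) = 1 from rfl, pow_one] at h
    have e := (TT).torus_conj_y hc s (1 : Fin 2) t
    rw [units_fix φ hsq h, Units.val_one, one_mul, mul_inv_eq_iff_eq_mul] at e
    exact e
  refine sl2_induction 2 (P := fun S => Commute (torusHom c : GK) (phiP 2 S))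
    (fun t => ?_) (fun t => ?_) ?_ ?_ S
  · rw [phiP_up, ← y_mid_true φ hφ]; exact hone _ _
  · rw [phiP_lo, ← y_mid_false φ hφ]; exact hone _ _
  · rw [map_one]; exact Commute.one_right _
  · intro x y hx hy; rw [map_mul]; exact hx.mul_right hy

omit [CharP K 2] in
theorem chiU_hv0 (w : Kˣ) (r : ℕ) : chiU ((TT).hv (0 : Fin 2) w) r = w ^ expo r := by
  have hnode : ∀ j : Fin 3, ((TT).node (0 : Fin 2) j : ℕ) = [0, 2, 3].getD j 0 :=
    (by decide +kernel : ∀ j : Fin 3, ((orbNode d4_031_π d4Base (0 : Fin 2) j : Fin chevD4.rank) : ℕ) =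
      [0, 2, 3].getD j 0)
  have hv' : ∀ j : Fin 3, (TT).hv (0 : Fin 2) w ((TT).node (0 : Fin 2) j) = w ^ 2 ^ (j : ℕ) := by
    intro j
    refine ((TT).hv_node (0 : Fin 2) w (j := (j : ℕ)) j.2).trans (Units.ext ?_)
    show (φ ^ (j : ℕ)) (w : K) = _
    fin_cases j
    · simp
    · simp [hsq]
    · show (φ ^ 2) (w : K) = _
      rw [pow_two, RingHom.mul_def, RingHom.comp_apply, hsq, hsq, ← pow_mul]
      rfl
  have h1 : (TT).hv (0 : Fin 2) w (⟨1, by decide +kernel⟩ : Fin chevD4.rank) = 1 := by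
    refine (TT).hv_other (a := (0 : Fin 2)) w fun j hj e => ?_
    have e' := (hnode ⟨j, hj⟩).symm.trans (congrArg Fin.val e)
    revert e'
    have hj3 : j < 3 := hj
    interval_cases j <;> simp
  have e0 := (congrArg ((TT).hv (0 : Fin 2) w) (Fin.ext (hnode 0).symm :
    (⟨0, by decide +kernel⟩ : Fin chevD4.rank) = (TT).node (0 : Fin 2) ((0 : Fin 3) : ℕ))).trans (hv' 0)
  have e2 := (congrArg ((TT).hv (0 : Fin 2) w) (Fin.ext (hnode 1).symm :
    (⟨2, by decide +kernel⟩ : Fin chevD4.rank) = (TT).node (0 : Fin 2) ((1 : Fin 3) : ℕ))).trans (hv' 1)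
  have e3 := (congrArg ((TT).hv (0 : Fin 2) w) (Fin.ext (hnode 2).symm :
    (⟨3, by decide +kernel⟩ : Fin chevD4.rank) = (TT).node (0 : Fin 2) ((2 : Fin 3) : ℕ))).trans (hv' 2)
  show ∏ j : Fin 4, (TT).hv (0 : Fin 2) w j ^ chevD4.cartan j r = _
  rw [Fin.prod_univ_four]
  show (TT).hv (0 : Fin 2) w ⟨0, by decide +kernel⟩ ^ chevD4.cartan 0 r *
    (TT).hv (0 : Fin 2) w ⟨1, by decide +kernel⟩ ^ chevD4.cartan 1 r *
    (TT).hv (0 : Fin 2) w ⟨2, by decide +kernel⟩ ^ chevD4.cartan 2 r *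
    (TT).hv (0 : Fin 2) w ⟨3, by decide +kernel⟩ ^ chevD4.cartan 3 r = _
  rw [h1, _root_.one_zpow, mul_one]
  erw [e0, e2, e3]
  simp only [expo, _root_.zpow_add, _root_.zpow_mul]
  simp

/-- An element of the Levi factor. -/
noncomputable def Xz (z : GK) : GK := phiP 2 sS * z

variable [Fintype K] (hcard : Fintype.card K = 8)
include hcard

theorem zpow_ne_one {w : Kˣ} (hw : w ≠ 1) {k : ℤ} (hk : ¬ (7 : ℤ) ∣ k) : w ^ k ≠ 1 := by
  classical
  have h7 : w ^ 7 = 1 := by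
    have := pow_card_eq_one (x := w)
    rwa [Fintype.card_units, hcard] at this
  have : Fact (Nat.Prime 7) := ⟨by norm_num⟩
  intro e
  rw [← orderOf_dvd_iff_zpow_eq_one, orderOf_eq_prime h7 hw] at e
  exact hk (by exact_mod_cast e)

theorem adm_Xz {z : GK} (hz : z ∈ (TT).T1) (hz1 : z ≠ 1) : Adm φ hφ (Xz z) := by
  obtain ⟨w, rfl⟩ := T1_hv φ hφ hsq hz
  have hw : w ≠ 1 := by
    rintro rfl
    have h2 : (TT).hv (0 : Fin 2) (1 : Kˣ) = 1 := by
      have := (TT).hv_map_mul (0 : Fin 2) 1 1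
      rw [mul_one] at this
      exact left_eq_mul.1 this
    exact hz1 (by rw [h2, map_one])
  have hcen := T1_central φ hφ hsq hz
  have hpow : ∀ n : ℕ, (torusHom ((TT).hv (0 : Fin 2) w) : GK) ^ n = torusHom ((TT).hv (0 : Fin 2) w ^ n) :=
    fun n => (map_pow _ _ n).symm
  set d := (TT).hv (0 : Fin 2) w ^ 3 with hd
  have h3 : (Xz (torusHom ((TT).hv (0 : Fin 2) w)) : GK) ^ 3 = torusHom d := by
    rw [Xz, (hcen sS).symm.mul_pow, ← map_pow, facts2.1, map_one, one_mul, hpow]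
  have hchi : ∀ r : ℕ, chiU d r = w ^ (3 * expo r) := fun r => by
    have hm : chiU d r = chiU ((TT).hv (0 : Fin 2) w) r ^ 3 := by
      show chiU ((TT).hv (0 : Fin 2) w ^ 3) r = _
      simp only [chiU, ← Finset.prod_pow, Pi.pow_apply]
      refine Finset.prod_congr rfl fun i _ => ?_
      rw [← zpow_natCast, ← zpow_natCast, ← _root_.zpow_mul, ← _root_.zpow_mul, mul_comm]
    rw [hm, chiU_hv0 φ hφ hsq, ← zpow_natCast, ← _root_.zpow_mul, mul_comm]
    norm_cast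
  have hne : ∀ r : ℕ, ¬ (7 : ℤ) ∣ expo r → chiU d r ≠ 1 := fun r hr => by
    rw [hchi]
    exact zpow_ne_one φ hsq hcard hw (by omega)
  have comm : ∀ v : GK, Xz (torusHom ((TT).hv (0 : Fin 2) w)) * v =
      v * Xz (torusHom ((TT).hv (0 : Fin 2) w)) → torusHom d * v = v * torusHom d := by
    intro v h
    rw [← h3]
    exact (Commute.pow_left h 3).eq
  have hlong : ∀ r ∈ [22, 23, 0, 1], ∀ x : K,
      Commute (torusHom ((TT).hv (0 : Fin 2) w) : GK) (xG facts_chevD4.{u} r x) := by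
    intro r hr x
    have hlt : r < 24 := by simp at hr; omega
    show _ = _
    rw [torusHom_conj facts_chevD4.{u} _ (lt_nroots hlt), chiU_hv0 φ hφ hsq]
    obtain ⟨k, hk⟩ := expo_facts.2 r hr
    have h7 : w ^ (7 : ℤ) = 1 := by
      classical
      have := pow_card_eq_one (x := w)
      rw [Fintype.card_units, hcard] at this
      exact_mod_cast this
    rw [hk, _root_.zpow_mul, h7, _root_.one_zpow, Units.val_one, one_mul]
  have fin : ∀ r s, (r, s) ∈ [(22, 23), (0, 1)] → ∀ f g : K,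
      Commute (Xz (torusHom ((TT).hv (0 : Fin 2) w)) : GK)
        (xG facts_chevD4.{u} r f * xG facts_chevD4.{u} s g) → f = 0 ∧ g = 0 := by
    intro r s hrs f g h
    have hr : r ∈ [22, 23, 0, 1] ∧ s ∈ [22, 23, 0, 1] := by simp at hrs ⊢; omega
    refine fixed_long hrs ?_
    have hz' : Commute (torusHom ((TT).hv (0 : Fin 2) w) : GK)⁻¹
        (xG facts_chevD4.{u} r f * xG facts_chevD4.{u} s g) :=
      ((hlong r hr.1 f).mul_right (hlong s hr.2 g)).inv_left
    have := h.mul_left hz'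
    rwa [Xz, mul_inv_cancel_right] at this
  refine ⟨Subgroup.mul_mem _ (phiP_mem φ hφ 2 _) (torus_mem_HH φ hφ hz),
    fun v hv h => ?_, fun v hv h => ?_⟩
  · obtain ⟨t, ht, rfl⟩ := supp_pos φ hφ (d := d) (Ls := [22, 23]) (fun r h1 h2 h3 =>
      hne _ (expo_facts.1 r h1 h2 h3).1) hv (comm v h)
    rw [prodFrom_eq_lprod (Or.inr rfl) ht] at h ⊢
    simp only [lprod, List.map_cons, List.map_nil, List.prod_cons, List.prod_nil, mul_one] at h ⊢
    obtain ⟨a, b⟩ := fin 22 23 (by simp) _ _ h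
    rw [a, b, xG_zero, xG_zero, mul_one]
  · obtain ⟨t, rfl⟩ := supp_neg φ hφ (d := d) (Or.inr rfl) (fun r h1 h2 h3 =>
      hne _ (expo_facts.1 r h1 h2 h3).2) hv (comm v h)
    have hn : ([22, 23].map chevD4.neg) = [1, 0] := by decide +kernel
    rw [hn] at h ⊢
    simp only [lprod, List.map_cons, List.map_nil, List.prod_cons, List.prod_nil, mul_one] at h ⊢
    have hc : Commute (xG facts_chevD4.{u} 1 (t 1) : GK) (xG facts_chevD4.{u} 0 (t 0)) :=
      xG_commute_of facts_chevD4.{u} (lt_nroots (r := 0) (by norm_num)) (lt_nroots (r := 1) (by norm_num))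
        (Or.inr ⟨by decide +kernel, by decide +kernel⟩) _ _
    rw [hc.eq] at h ⊢
    obtain ⟨a, b⟩ := fin 0 1 (by simp) _ _ h
    rw [a, b, xG_zero, xG_zero, mul_one]

end Cfsg.Agent.D4Square
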