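import Cfsg.Agent.D4Square.Two

/-!
The class of the chosen element of ³D₄(2) squared covers the non-identity elements.
-/

set_option autoImplicit false
set_option maxRecDepth 100000
set_option maxHeartbeats 1000000

namespace Cfsg.Agent.D4Square

open Cfsg.Lie Cfsg.Agent.Chev Matrix
open scoped MatrixGroups

universe u

local notation "S2" => SpecialLinearGroup (Fin 2) (ZMod 2)

theorem word_facts :
    (∀ w ∈ [[0], [0, 1], [0, 1, 0], [0, 1, 0, 1]],
      w ∈ words ∧ half chevD4 ≤ wv (w : List (Fin 2)).reverse 14 ∧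
        half chevD4 ≤ wv [1] (wv (w : List (Fin 2)).reverse 14)) ∧
    (∀ j : Fin 3, half chevD4 ≤ wv [0, 1] (rtNat chevD4 d4_031_π d4Base true (0 : Fin 2) j)) ∧
    (∀ j : Fin 3, half chevD4 ≤ chevD4.neg (wv [0, 1] (rtNat chevD4 d4_031_π d4Base false (0 : Fin 2) j)) ∧
      half chevD4 ≤ wv [1] (chevD4.neg (wv [0, 1] (rtNat chevD4 d4_031_π d4Base false (0 : Fin 2) j)))) ∧
    (∀ r : Fin chevD4.nroots,
      wv [1, 1, 0] r = wv [0] r ∧ wv [0, 0, 1, 0, 1] r = wv [1, 0, 1] r ∧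
      wv [1, 1, 0, 1, 0] r = wv [0, 1, 0] r ∧
      wv [0, 1, 0, 1, 0, 1] r = wv [1, 0, 1, 0, 1, 0] r) := by
  decide +kernel

variable {K : Type u} [Field K] [CharP K 2] [Fintype K]

local notation "GK" => GL chevD4.Idx K

variable (φ : K →+* K) (hφ : ∀ t, (φ ^ 3) t = t)

local notation "TT" => twistD4 K φ hφ
local notation "OO" => opp φ hφ

/-- Being a product of two conjugates of `x`. -/
def Two (x g : GK) : Prop :=
  ∃ a ∈ (TT).G1, ∃ b ∈ (TT).G1, g = (a * x * a⁻¹) * (b * x * b⁻¹)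

omit [CharP K 2] [Fintype K] in
theorem Two.of_cj {x g g' : GK} (h : Two φ hφ x g') (hc : (TT).Cj g g') : Two φ hφ x g := by
  obtain ⟨a, ha, b, hb, e⟩ := h
  obtain ⟨c, hcG, rfl⟩ := hc
  refine ⟨c⁻¹ * a, Subgroup.mul_mem _ (Subgroup.inv_mem _ hcG) ha,
    c⁻¹ * b, Subgroup.mul_mem _ (Subgroup.inv_mem _ hcG) hb, ?_⟩
  calc g = c⁻¹ * (c * g * c⁻¹) * c := by group
    _ = _ := by rw [e]; group

omit [CharP K 2] [Fintype K] in
theorem Two.inv {x g : GK} (hx : ∃ e ∈ (TT).G1, x⁻¹ = e * x * e⁻¹) (h : Two φ hφ x g⁻¹) :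
    Two φ hφ x g := by
  obtain ⟨e, he, ex⟩ := hx
  obtain ⟨a, ha, b, hb, h⟩ := h
  refine ⟨b * e, Subgroup.mul_mem _ hb he, a * e, Subgroup.mul_mem _ ha he, ?_⟩
  calc g = (g⁻¹)⁻¹ := (inv_inv g).symm
    _ = (b * x⁻¹ * b⁻¹) * (a * x⁻¹ * a⁻¹) := by rw [h]; group
    _ = _ := by rw [ex]; group

/-- The class of an element of `U` modulo the radical. -/
def InC (a : K) (v : GK) : Prop := v * ((TT).y true (1 : Fin 2) a)⁻¹ ∈ (TT).Rd (1 : Fin 2)

omit [CharP K 2] [Fintype K] in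
theorem InC.mul {a b : K} {v w : GK} (ha : φ a = a) (h : InC φ hφ a v) (h' : InC φ hφ b w) :
    InC φ hφ (a + b) (v * w) := by
  have h2 := Subgroup.mul_mem _ h ((TT).y_true_Rd (par_mid φ hφ ha) h')
  show v * w * ((TT).y true (1 : Fin 2) (a + b))⁻¹ ∈ _
  rw [← (TT).y_mul true (1 : Fin 2) a b]
  convert h2 using 1
  group

variable (hsq : ∀ t, φ t = t ^ 2)
include hsq

theorem exists_InC {v : GK} (hv : v ∈ (TT).U1) :
    ∃ a, (a = 0 ∨ a = 1) ∧ InC φ hφ a v := by
  obtain ⟨r, hr, a, ha, rfl⟩ := (TT).exists_split_U1 (1 : Fin 2) hv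
  refine ⟨a, ?_, by show r * _ * _ ∈ _; rwa [mul_inv_cancel_right]⟩
  change (φ ^ d4Len 1) a = a at ha
  rw [show d4Len (1 : Fin 2) = 1 from rfl, pow_one, hsq] at ha
  rcases mul_eq_zero.1 (show a * (a - 1) = 0 by linear_combination ha) with h | h
  · exact Or.inl h
  · exact Or.inr (sub_eq_zero.1 h)

omit hsq [CharP K 2] [Fintype K] in
theorem y_conj_Rd {n : GK} {π : Equiv.Perm (Fin chevD4.nroots)} (hn : IsMon (TT).hF n π)
    (hf : n ∈ (TT).fx) (s : Bool) (a : Fin 2)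
    (h : ∀ j < d4Len a, half chevD4 ≤ (π ((TT).rt s a j) : ℕ) ∧
      half chevD4 ≤ wv [1] (π ((TT).rt s a j) : ℕ))
    {t : K} (ht : (TT).Par a t) : n * (TT).y s a t * n⁻¹ ∈ (TT).Rd (1 : Fin 2) := by
  refine ⟨?_, Subgroup.mul_mem _ (Subgroup.mul_mem _ hf ((TT).y_fx ht s)) (Subgroup.inv_mem _ hf)⟩
  rw [← MulAut.conj_apply]
  delta Twist.y Twist.yv
  rw [map_list_prod, List.map_map]
  refine Subgroup.list_prod_mem _ fun x hx => ?_
  obtain ⟨j, hj, rfl⟩ := List.mem_map.1 hx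
  obtain ⟨v, hv⟩ := isMon_conj_mem (TT).hF hn ((TT).rt s a j) ((φ ^ j) t)
  obtain ⟨h1, h2⟩ := h j (List.mem_range.1 hj)
  have e := (congrArg (fun p : Equiv.Perm (Fin chevD4.nroots) => (p (π ((TT).rt s a j)) : ℕ))
    ((TT).pW_singleton (1 : Fin 2))).symm.trans (pW_val' φ hφ [(1 : Fin 2)] (π ((TT).rt s a j)))
  rw [Function.comp_apply, MulAut.conj_apply]
  exact hv ▸ Subgroup.subset_closure ⟨_, v, h1, le_of_le_of_eq h2 e.symm, rfl⟩

omit [Fintype K] hsq in
theorem y_mid_true_one : (TT).y true (1 : Fin 2) (1 : K) = phiP 2 (upS 1) := by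
  rw [phiP_up, map_one, y_mid_true]

omit [Fintype K] hsq in
theorem y_mid_false_one : (TT).y false (1 : Fin 2) (1 : K) = phiP 2 (loS 1) := by
  rw [phiP_lo, map_one, y_mid_false]

variable (hcard : Fintype.card K = 8)
include hcard

theorem cover_two :
    ∃ x ∈ (TT).G1, x ^ 21 = 1 ∧ ∀ g ∈ (TT).G1, g ≠ 1 → Two φ hφ x g := by
  classical
  set O := opp φ hφ with hO
  -- the torus element
  obtain ⟨u, hu⟩ : ∃ u : Kˣ, u ≠ 1 := by
    have : 1 < Fintype.card Kˣ := by rw [Fintype.card_units, hcard]; norm_num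
    exact Fintype.exists_ne_of_one_lt_card this 1
  have hpar : ∀ w : Kˣ, (TT).Par (0 : Fin 2) (w : K) := fun w => hφ _
  have hvT : ∀ w : Kˣ, (torusHom ((TT).hv (0 : Fin 2) w) : GK) ∈ (TT).T1 :=
    fun w => (TT).mem_T1.2 ⟨_, (TT).hv_mem (hpar w), rfl⟩
  set N : GK := (TT).nW ([0, 1] : List (Fin 2)) with hN
  have hNn : N ∈ Subgroup.normalizer ((TT).T1 : Set GK) := (TT).N1_le_normalizer ((TT).nW_mem_N1 _)
  have hflip : (TT).nA (0 : Fin 2) * torusHom ((TT).hv (0 : Fin 2) u) * ((TT).nA (0 : Fin 2))⁻¹ =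
      (torusHom ((TT).hv (0 : Fin 2) u) : GK)⁻¹ :=
    ((TT).nA_hv (0 : Fin 2) (hpar u)).trans
      ((congrArg torusHom ((TT).hv_inv (0 : Fin 2) u)).trans (map_inv _ _))
  set z0 : GK := N * torusHom ((TT).hv (0 : Fin 2) u) * N⁻¹ with hz0
  have hz : z0 ∈ (TT).T1 := (Subgroup.mem_normalizer_iff.1 hNn _).1 (hvT u)
  have hz1 : z0 ≠ 1 := by
    intro e
    rw [hz0, conj_eq_one_iff] at e
    have h := (torusHom_eq_one_iff _).1 e ⟨chevD4.simple (d4Base 0), by decide +kernel⟩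
    have h2 : u ^ 2 = 1 := ((TT).chiU_hv (0 : Fin 2) u).symm.trans h
    refine hu (Units.ext ?_)
    have h3 : ((u : K) - 1) * ((u : K) - 1) = 0 := by
      have h4 : (u : K) ^ 2 = 1 := by simpa using congrArg Units.val h2
      have h5 : (2 : K) = 0 := CharP.cast_eq_zero K 2
      linear_combination h4 + (1 - (u : K)) * h5
    exact sub_eq_zero.1 (mul_self_eq_zero.1 h3)
  set x : GK := Xz z0 with hx
  have hcen := fun {z : GK} (h : z ∈ (TT).T1) => T1_central φ hφ hsq h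
  have hadm : Adm φ hφ x := adm_Xz φ hφ hsq hcard hz hz1
  have hadm' : Adm φ hφ (Xz z0⁻¹) :=
    adm_Xz φ hφ hsq hcard (Subgroup.inv_mem _ hz) (fun e => hz1 (inv_eq_one.1 e))
  have hnC : nC φ hφ * x * (nC φ hφ)⁻¹ = Xz z0⁻¹ := by
    have e1 : nC φ hφ * z0 * (nC φ hφ)⁻¹ = z0⁻¹ := by
      rw [hz0, nC, ← hN]
      calc _ = N * ((TT).nA (0 : Fin 2) * torusHom ((TT).hv (0 : Fin 2) u) * ((TT).nA (0 : Fin 2))⁻¹) *
            N⁻¹ := by group
        _ = _ := by rw [hflip]; group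
    rw [hx, Xz, Xz, ← mul_assoc, (nC_phiP φ hφ 2 sS).eq, mul_assoc (phiP 2 sS), mul_assoc (phiP 2 sS), e1]
  have hmem : Mem φ hφ x x := ⟨hadm, 1, Subgroup.one_mem _, by group⟩
  have hmem' : Mem φ hφ x (Xz z0⁻¹) := ⟨hadm', nC φ hφ, nC_mem φ hφ, hnC.symm⟩
  have hL : (phiP 2 (loS 1) : GK) ∈ (TT).G1 := (phiP_mem φ hφ 2 _).1
  have hinv : ∃ e ∈ (TT).G1, x⁻¹ = e * x * e⁻¹ := by
    refine ⟨phiP 2 (loS 1) * nC φ hφ, Subgroup.mul_mem _ hL (nC_mem φ hφ), ?_⟩
    calc x⁻¹ = (phiP 2 sS)⁻¹ * z0⁻¹ := by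
          rw [hx, Xz, ← (hcen hz sS).eq, _root_.mul_inv_rev]
      _ = phiP 2 (loS 1) * (phiP 2 sS * z0⁻¹) * (phiP 2 (loS 1))⁻¹ := by
          rw [← map_inv (phiP 2) sS, ← facts2.2.1, map_mul, map_mul, map_inv]
          simp only [mul_assoc, ← ((hcen hz (loS 1)).inv_left.inv_right).eq]
      _ = _ := by
          rw [show phiP 2 sS * z0⁻¹ = Xz z0⁻¹ from rfl, ← hnC]; group
  have hord : x ^ 21 = 1 := by
    have h7 : z0 ^ 7 = 1 := by
      obtain ⟨w, hw⟩ := T1_hv φ hφ hsq hz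
      rw [hw, ← map_pow]
      have : (TT).hv (0 : Fin 2) w ^ 7 = 1 := by
        funext i
        rw [Pi.pow_apply, Pi.one_apply]
        have := pow_card_eq_one (x := (TT).hv (0 : Fin 2) w i)
        rwa [Fintype.card_units, hcard] at this
      rw [this, map_one]
    rw [hx, Xz, (hcen hz sS).symm.mul_pow, ← map_pow, show (21 : ℕ) = 3 * 7 from rfl, pow_mul sS,
      facts2.1, one_pow, map_one, one_mul, pow_mul', h7, one_pow]
  refine ⟨x, hadm.1.1, hord, ?_⟩
  -- good middle parts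
  have middleGood : ∀ (g u1 v1 : GK) (M : S2), GoodM M → u1 ∈ (TT).Rn O (1 : Fin 2) →
      v1 ∈ (TT).Rd (1 : Fin 2) → (TT).Cj g (u1 * phiP 2 M * v1) → Two φ hφ x g := by
    rintro g u1 v1 _ ⟨A, B, rfl⟩ hu1 hv1 hcj
    refine product φ hφ (hmem.conj φ hφ (phiP_mem φ hφ 2 A)) (hmem'.conj φ hφ (phiP_mem φ hφ 2 B))
      hu1 hv1 ?_
    have e1 : phiP 2 A * x * (phiP 2 A)⁻¹ = phiP 2 (A * sS * A⁻¹) * z0 := by
      rw [hx, Xz, map_mul, map_mul, map_inv]
      simp only [mul_assoc, ((hcen hz A).inv_right).eq]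
    have e2 : phiP 2 B * Xz z0⁻¹ * (phiP 2 B)⁻¹ = z0⁻¹ * phiP 2 (B * sS * B⁻¹) := by
      rw [Xz, (hcen (Subgroup.inv_mem _ hz) (B * sS * B⁻¹)).eq, map_mul, map_mul, map_inv]
      simp only [mul_assoc, ((hcen (Subgroup.inv_mem _ hz) B).inv_right).eq]
    rw [e1, e2, mul_assoc (phiP 2 (A * sS * A⁻¹)), mul_inv_cancel_left, ← map_mul]
    exact hcj
  -- the cells that are handled by the flip
  have flipGood : ∀ w ∈ ([[0], [0, 1], [0, 1, 0], [0, 1, 0, 1]] : List (List (Fin 2))),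
      ∀ g, (TT).BCell w g → Two φ hφ x g := by
    intro w hw g hg
    obtain ⟨hww, hp1, hp2⟩ := word_facts.1 w hw
    have hreach : ∀ t ∈ (TT).T1, (TT).Reach O w t := by
      rcases w with _ | ⟨i, _ | ⟨j, l⟩⟩
      · simp at hw
      · obtain rfl : i = 0 := by simpa using hw
        intro t ht
        obtain ⟨c, rfl⟩ := T1_hv φ hφ hsq ht
        exact (TT).reach_single O (0 : Fin 2) (hpar c)
      · exact reach_all φ hφ _ hww (by simp)
    obtain ⟨h, hh, v, hv, hcj⟩ := hg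
    obtain ⟨e, he, uu, huu, p, hp, ep⟩ := (hreach _ (Subgroup.inv_mem _ hh)).2 1 (Subgroup.one_mem _)
    rw [mul_one] at ep
    obtain ⟨u1, hu1, c, hc, rfl⟩ := (TT).exists_split_V1 O (1 : Fin 2) huu
    set W : GK := (TT).nW w with hW
    set Y : GK := (TT).y true (1 : Fin 2) 1 with hY
    have hYU : Y ∈ (TT).U1 := (TT).y_mem_U1 ((TT).par_one _)
    set Z : GK := W⁻¹ * Y * W with hZdef
    have hZ : Z ∈ (TT).Rd (1 : Fin 2) := by
      have hm := isMon_inv' (TT).hF ((TT).isMon_nW w)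
      have hval : (((TT).pW w)⁻¹ ((TT).rt true (1 : Fin 2) 0) : ℕ) = wv w.reverse 14 :=
        ((congrArg (fun π : Equiv.Perm (Fin chevD4.nroots) => (π ((TT).rt true (1 : Fin 2) 0) : ℕ))
          ((TT).pW_reverse w)).trans (pW_val' φ hφ w.reverse _)).trans
          (congrArg (wv w.reverse) mid_facts.1)
      have := y_conj_Rd φ hφ hm (Subgroup.inv_mem _ ((TT).nW_mem_fx w)) true (1 : Fin 2)
        (fun j hj => by
          obtain rfl : j = 0 := Nat.lt_one_iff.1 hj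
          constructor
          · exact le_of_le_of_eq hp1 hval.symm
          · exact le_of_le_of_eq hp2 (congrArg (wv [1]) hval).symm) ((TT).par_one (1 : Fin 2))
      rwa [inv_inv] at this
    set Z' : GK := h⁻¹ * Z * h with hZ'def
    have hZ' : Z' ∈ (TT).Rd (1 : Fin 2) := by
      have := (TT).torus_Rd (Subgroup.inv_mem _ hh) hZ
      rwa [inv_inv] at this
    set p' : GK := h⁻¹ * p * h with hp'def
    have hp' : p' ∈ (TT).U1 := (TT).torus_conj_U1' hh hp
    obtain ⟨ap, hap, hPc⟩ := exists_InC φ hφ hsq hp'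
    obtain ⟨av, hav, hVc⟩ := exists_InC φ hφ hsq hv
    obtain ⟨ae, hae, hEc⟩ := exists_InC φ hφ hsq (Subgroup.inv_mem _ he)
    have fx01 : ∀ {a : K}, a = 0 ∨ a = 1 → φ a = a := by
      rintro a (rfl | rfl) <;> simp
    have hc01 : c = 0 ∨ c = 1 := by
      change (φ ^ d4Len 1) c = c at hc
      rw [show d4Len (1 : Fin 2) = 1 from rfl, pow_one, hsq] at hc
      rcases mul_eq_zero.1 (show c * (c - 1) = 0 by linear_combination hc) with h | h
      · exact Or.inl h
      · exact Or.inr (sub_eq_zero.1 h)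
    -- two candidates for the upper part
    have hfin : ∀ v', v' ∈ (TT).U1 → (TT).Cj g (W * h * v') →
        InC φ hφ c (p' * (v' * e⁻¹)) → Two φ hφ x g := by
      intro v' hv' hcj' hcl
      set m : ZMod 2 := if c = 0 then 0 else 1
      have hm : iota 2 m = c := by
        rcases hc01 with rfl | rfl <;> simp [m]
      set R : GK := p' * (v' * e⁻¹) * ((TT).y true (1 : Fin 2) c)⁻¹ with hR
      set R' : GK := ((TT).y true (1 : Fin 2) c)⁻¹ * R * (TT).y true (1 : Fin 2) c with hR'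
      have hR'm : R' ∈ (TT).Rd (1 : Fin 2) := by
        have := (TT).y_true_Rd ((TT).par_neg hc) (show R ∈ (TT).Rd (1 : Fin 2) from hcl)
        rwa [← (TT).y_inv true (1 : Fin 2) c, inv_inv] at this
      refine middleGood g u1 R' (loS m * upS m) (good_same m) hu1 hR'm
        (hcj'.trans ⟨e, (TT).U1_le_G1 he, ?_⟩)
      rw [map_mul, phiP_lo, phiP_up, hm, ← y_mid_true φ hφ, ← y_mid_false φ hφ]
      calc e * (W * h * v') * e⁻¹ = e * W * h * (v' * e⁻¹) := by group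
        _ = u1 * (TT).y false (1 : Fin 2) c * (p' * (v' * e⁻¹)) := by rw [ep, hp'def]; group
        _ = _ := by rw [hR', hR]; group
    set tot : K := ap + (av + ae) with htot
    have hcl : InC φ hφ tot (p' * (v * e⁻¹)) :=
      hPc.mul φ hφ (fx01 hap) (hVc.mul φ hφ (fx01 hav) hEc)
    by_cases htc : tot = c
    · exact hfin v hv hcj (htc ▸ hcl)
    set v2 : GK := Z' * v * Y with hv2
    have hv2U : v2 ∈ (TT).U1 :=
      Subgroup.mul_mem _ (Subgroup.mul_mem _ ((TT).Rd_le _ hZ') hv) hYU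
    have hYinv : Y⁻¹ = Y := ((TT).y_inv true (1 : Fin 2) (1 : K)).trans (by rw [neg_eq'])
    refine hfin v2 hv2U (hcj.trans ⟨Y, (TT).U1_le_G1 hYU, ?_⟩) ?_
    · rw [hv2, hZ'def, hZdef, hYinv]; group
    · have hY1 : InC φ hφ 1 Y := by
        show Y * ((TT).y true (1 : Fin 2) 1)⁻¹ ∈ _
        rw [← hY, mul_inv_cancel]; exact Subgroup.one_mem _
      have hZ0 : InC φ hφ 0 Z' := by
        show Z' * ((TT).y true (1 : Fin 2) 0)⁻¹ ∈ _
        rwa [(TT).y_zero true (1 : Fin 2), inv_one, mul_one]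
      have hav1 : φ (0 + av + 1) = 0 + av + 1 := by rw [map_add, map_add, map_zero, map_one, fx01 hav]
      have h2 := hPc.mul φ hφ (fx01 hap) (((hZ0.mul φ hφ (map_zero φ) hVc).mul φ hφ
        (by rw [map_add, map_zero, fx01 hav]) hY1).mul φ hφ hav1 hEc)
      have hce : ap + (0 + av + 1 + ae) = c := by
        have h5 : (2 : K) = 0 := CharP.cast_eq_zero K 2
        rw [htot] at htc
        rcases hap with rfl | rfl <;> rcases hav with rfl | rfl <;> rcases hae with rfl | rfl <;>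
          rcases hc01 with rfl | rfl <;>
          first
            | linear_combination (0 : K) * h5
            | linear_combination h5
            | linear_combination 2 * h5
            | exact absurd (by linear_combination (0 : K) * h5) htc
            | exact absurd (by linear_combination h5) htc
            | exact absurd (by linear_combination 2 * h5) htc
      rw [hce] at h2
      exact h2
  -- reductions between the cells
  have g0 := flipGood [0] (by simp)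
  have g01 := flipGood [0, 1] (by simp)
  have g010 := flipGood [0, 1, 0] (by simp)
  have g0101 := flipGood [0, 1, 0, 1] (by simp)
  have g10 : ∀ g, (TT).BCell ([1, 0] : List (Fin 2)) g → Two φ hφ x g := fun g h =>
    Two.inv φ hφ hinv (g01 _ h.reverse)
  have g1010 : ∀ g, (TT).BCell ([1, 0, 1, 0] : List (Fin 2)) g → Two φ hφ x g := fun g h =>
    Two.inv φ hφ hinv (g0101 _ h.reverse)
  have g101 : ∀ g, (TT).BCell ([1, 0, 1] : List (Fin 2)) g → Two φ hφ x g := fun g h => by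
    refine Two.inv φ hφ hinv ?_
    rcases Twist.BCell.rotate (T := TT) (a := (1 : Fin 2)) (ws := ([0, 1] : List (Fin 2))) h with h' | h'
    · exact g0 _ (h'.congr (pW_congr φ hφ fun r => (word_facts.2.2.2 r).1))
    · exact g10 _ h'
  have g01010 : ∀ g, (TT).BCell ([0, 1, 0, 1, 0] : List (Fin 2)) g → Two φ hφ x g := fun g h => by
    refine Two.inv φ hφ hinv ?_
    rcases Twist.BCell.rotate (T := TT) (a := (0 : Fin 2)) (ws := ([1, 0, 1, 0] : List (Fin 2))) h with h' | h'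
    · exact g101 _ (h'.congr (pW_congr φ hφ fun r => (word_facts.2.2.2 r).2.1))
    · exact g0101 _ h'
  have g10101 : ∀ g, (TT).BCell ([1, 0, 1, 0, 1] : List (Fin 2)) g → Two φ hφ x g := fun g h => by
    refine Two.inv φ hφ hinv ?_
    rcases Twist.BCell.rotate (T := TT) (a := (1 : Fin 2)) (ws := ([0, 1, 0, 1] : List (Fin 2))) h with h' | h'
    · exact g010 _ (h'.congr (pW_congr φ hφ fun r => (word_facts.2.2.2 r).2.2.1))
    · exact g1010 _ h'
  have gtop : ∀ g, (TT).BCell ([0, 1, 0, 1, 0, 1] : List (Fin 2)) g → Two φ hφ x g := fun g h => by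
    obtain ⟨k0, hk0, v, hv, hcj⟩ := h.congr
      (pW_congr φ hφ (ws' := [1, 0, 1, 0, 1, 0]) fun r => (word_facts.2.2.2 r).2.2.2)
    obtain ⟨k, hk, hk'⟩ := (TT).nW_inv ([0, 1] : List (Fin 2))
    change N⁻¹ = (TT).nW ([1, 0] : List (Fin 2)) * k at hk'
    set A0 : GK := (TT).nA (0 : Fin 2) with hA0
    set A1 : GK := (TT).nA (1 : Fin 2) with hA1
    have hword : (TT).nW ([1, 0, 1, 0, 1, 0] : List (Fin 2)) = A1 * N * A0 * (N⁻¹ * k⁻¹) := by
      have e := (TT).nW_append ([1, 0, 1, 0] : List (Fin 2)) ([1, 0] : List (Fin 2))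
      have e1 := (TT).nW_cons (1 : Fin 2) ([0, 1, 0] : List (Fin 2))
      have e2 := (TT).nW_append ([0, 1] : List (Fin 2)) ([0] : List (Fin 2))
      have e3 := (TT).nW_cons (0 : Fin 2) ([] : List (Fin 2))
      have e4 : (TT).nW ([] : List (Fin 2)) = 1 := (TT).nW_nil
      refine e.trans ?_
      rw [hk', mul_inv_cancel_right]
      refine congrArg (· * _) (e1.trans ?_)
      rw [mul_assoc A1]
      exact congrArg (A1 * ·) (e2.trans (congrArg (N * ·) (e3.trans (by rw [e4, mul_one]))))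
    set h0 : GK := k⁻¹ * k0 with hh0
    have hh0T : h0 ∈ (TT).T1 := Subgroup.mul_mem _ (Subgroup.inv_mem _ hk) hk0
    have hH0 : N⁻¹ * h0 * N ∈ (TT).T1 := (Subgroup.mem_normalizer_iff''.1 hNn _).1 hh0T
    obtain ⟨s, hs⟩ := T1_hv φ hφ hsq hH0
    have h0eq : h0 = N * torusHom ((TT).hv (0 : Fin 2) s) * N⁻¹ := by rw [← hs]; group
    have hflip' : A0 * torusHom ((TT).hv (0 : Fin 2) s) = torusHom ((TT).hv (0 : Fin 2) s⁻¹) * A0 :=
      mul_inv_eq_iff_eq_mul.1 ((TT).nA_hv (0 : Fin 2) (hpar s))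
    set X : GK := (TT).y true (0 : Fin 2) (-((s⁻¹ : Kˣ) : K)) with hX
    set Ym : GK := (TT).y false (0 : Fin 2) (-(((s⁻¹ : Kˣ) : K))⁻¹) with hYm
    set Yp : GK := (TT).y true (0 : Fin 2) ((s⁻¹ : Kˣ) : K) with hYp
    have key : X * (A0 * torusHom ((TT).hv (0 : Fin 2) s)) = Ym * Yp := by
      rw [hflip']
      exact (TT).y_true_nn (0 : Fin 2) s⁻¹
    have hp1 : (TT).Par (0 : Fin 2) (-((s⁻¹ : Kˣ) : K)) := (TT).par_neg (hpar _)
    have hp2 : (TT).Par (0 : Fin 2) (-(((s⁻¹ : Kˣ) : K))⁻¹) := (TT).par_neg ((TT).par_inv (hpar _))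
    have hpos : half chevD4 ≤ ((TT).pW ([0, 1] : List (Fin 2)) ((TT).rt true (0 : Fin 2) 0) : ℕ) :=
      le_of_le_of_eq (word_facts.2.1 0)
        ((pW_val' φ hφ [0, 1] _).trans (congrArg (wv [0, 1]) ((TT).rt_val true (0 : Fin 2) 0))).symm
    have hU : ∀ {t : K}, (TT).Par (0 : Fin 2) t → N * (TT).y true (0 : Fin 2) t * N⁻¹ ∈ (TT).U1 := by
      intro t ht
      have := (TT).conj_y_mem (isMon_inv' (TT).hF ((TT).isMon_nW ([0, 1] : List (Fin 2))))
        (Subgroup.inv_mem _ ((TT).nW_mem_fx _)) (((TT).inW1_pW _).inv (TT)) (a := (0 : Fin 2))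
        (by rw [inv_inv]; exact hpos) ht
      rwa [inv_inv] at this
    have hRn : N * Ym * N⁻¹ ∈ (TT).Rn O (1 : Fin 2) := by
      refine ((TT).mem_Rn O).2 ?_
      have hi := isMon_mul (TT).hF (isMon_inv' (TT).hF ((TT).isMon_nW O.ws))
        ((TT).isMon_nW ([0, 1] : List (Fin 2)))
      have := y_conj_Rd φ hφ hi (Subgroup.mul_mem _ (Subgroup.inv_mem _ ((TT).nW_mem_fx _)) ((TT).nW_mem_fx _))
        false (0 : Fin 2) (fun j hj => by
          have hval : ((((TT).pW O.ws)⁻¹ * (TT).pW ([0, 1] : List (Fin 2))) ((TT).rt false (0 : Fin 2) j) : ℕ) =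
              chevD4.neg (wv [0, 1] (rtNat chevD4 d4_031_π d4Base false (0 : Fin 2) j)) := by
            have hn : ∀ r, ((TT).pW O.ws)⁻¹ r = negF (TT).hF r := fun r =>
              Equiv.Perm.inv_eq_iff_eq.2 (by rw [O.neg, negF_negF])
            rw [Equiv.Perm.mul_apply, hn]
            exact congrArg chevD4.neg ((pW_val' φ hφ [0, 1] _).trans
              (congrArg (wv [0, 1]) ((TT).rt_val false (0 : Fin 2) j)))
          obtain ⟨k1, k2⟩ := word_facts.2.2.1 ⟨j, hj⟩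
          exact ⟨le_of_le_of_eq k1 hval.symm, le_of_le_of_eq k2 (congrArg (wv [1]) hval).symm⟩) hp2
      convert this using 1
      rw [hYm, hN]
      group
    set e : GK := N * X * N⁻¹ with he
    have heU : e ∈ (TT).U1 := hU hp1
    have hcomm : ∀ (b : Bool) (t : K) (S : S2),
        Commute (N * (TT).y b (0 : Fin 2) t * N⁻¹) (phiP 2 S) := by
      intro b t S
      refine sl2_induction 2 (P := fun S => Commute (N * (TT).y b (0 : Fin 2) t * N⁻¹) (phiP 2 S))
        (fun f => ?_) (fun f => ?_) ?_ ?_ S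
      · rw [phiP_up]; exact conj_y_commute φ hφ b t (Or.inl rfl) _
      · rw [phiP_lo]; exact conj_y_commute φ hφ b t (Or.inr rfl) _
      · rw [map_one]; exact Commute.one_right _
      · intro x y hx hy; rw [map_mul]; exact hx.mul_right hy
    have hA1phi : A1 = phiP 2 (upS 1 * loS 1 * upS 1) := by
      rw [map_mul, map_mul, ← y_mid_true_one φ hφ, ← y_mid_false_one φ hφ]
      refine ((TT).nn_one (1 : Fin 2)).symm.trans ?_
      delta Twist.nn
      rw [inv_one, neg_eq']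
    set v' : GK := N * Yp * N⁻¹ * (v * e⁻¹) with hv'
    have hv'U : v' ∈ (TT).U1 :=
      Subgroup.mul_mem _ (hU (hpar _)) (Subgroup.mul_mem _ hv (Subgroup.inv_mem _ heU))
    have hmain : (TT).Cj g (N * Ym * N⁻¹ * A1 * v') := by
      refine hcj.trans ⟨e, (TT).U1_le_G1 heU, ?_⟩
      have hce : e * A1 = A1 * e := by rw [hA1phi]; exact (hcomm true _ _).eq
      have hcy : A1 * (N * Ym * N⁻¹) = N * Ym * N⁻¹ * A1 := by
        rw [hA1phi]; exact (hcomm false _ _).eq.symm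
      rw [hword]
      calc e * (A1 * N * A0 * (N⁻¹ * k⁻¹) * k0 * v) * e⁻¹
          = (e * A1) * N * A0 * N⁻¹ * h0 * (v * e⁻¹) := by rw [hh0]; group
        _ = A1 * (N * (X * (A0 * torusHom ((TT).hv (0 : Fin 2) s))) * N⁻¹) * (v * e⁻¹) := by
            rw [hce, he, h0eq]; group
        _ = A1 * (N * Ym * N⁻¹) * v' := by rw [key, hv']; group
        _ = _ := by rw [hcy]
    obtain ⟨a, ha01, hacl⟩ := exists_InC φ hφ hsq hv'U
    set r : GK := v' * ((TT).y true (1 : Fin 2) a)⁻¹ with hr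
    have hfixa : φ a = a := by rcases ha01 with rfl | rfl <;> simp
    rcases ha01 with rfl | rfl
    · -- the element lies in a smaller cell
      have hv'r : v' ∈ (TT).Rd (1 : Fin 2) := by
        have : v' * ((TT).y true (1 : Fin 2) 0)⁻¹ ∈ (TT).Rd (1 : Fin 2) := hacl
        rwa [(TT).y_zero true (1 : Fin 2), inv_one, mul_one] at this
      set Lo : GK := phiP 2 (loS 1) with hLo
      have hLi : Lo⁻¹ = Lo := by rw [hLo, ← map_inv, facts2.2.2.1]
      set v2 : GK := phiP 2 (upS 1) * (Lo * v' * Lo⁻¹) with hv2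
      have hv2U : v2 ∈ (TT).U1 := by
        refine Subgroup.mul_mem _ ?_ ((TT).Rd_le (1 : Fin 2) ?_)
        · rw [← y_mid_true_one φ hφ]; exact (TT).y_mem_U1 ((TT).par_one _)
        · exact (Subgroup.mem_normalizer_iff.1 (phiP_mem φ hφ 2 (loS 1)).2.1 _).1 hv'r
      have hsmall : (TT).BCell ([0, 1, 0, 1, 0] : List (Fin 2)) g := by
        refine Twist.BCell.of_cj ?_ (hmain.trans ⟨Lo, hL, rfl⟩)
        have e1 : Lo * (N * Ym * N⁻¹ * A1 * v') * Lo⁻¹ = N * Ym * N⁻¹ * v2 := by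
          rw [hv2, ← facts2.2.2.2.1, map_mul, map_mul, ← hA1phi, ← hLo]
          calc Lo * (N * Ym * N⁻¹ * A1 * v') * Lo⁻¹
              = (Lo * (N * Ym * N⁻¹)) * (A1 * v' * Lo⁻¹) := by group
            _ = (N * Ym * N⁻¹ * Lo) * (A1 * v' * Lo⁻¹) := by rw [(hcomm false _ (loS 1)).eq]
            _ = N * Ym * N⁻¹ * (Lo * A1 * Lo * (Lo⁻¹ * v' * Lo⁻¹)) := by group
            _ = _ := by rw [hLi]
        rw [e1]
        obtain ⟨hT, hhT, eY⟩ := (TT).y_true_mem_cell (0 : Fin 2) (s := s⁻¹) (hpar _)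
        rw [← hYm, ← hA0] at eY
        set y1 : GK := (TT).y true (0 : Fin 2) (-((s⁻¹ : Kˣ) : K)) with hy1
        have hw5 : (TT).nW ([0, 1, 0, 1, 0] : List (Fin 2)) = N * A0 * (N⁻¹ * k⁻¹) := by
          have e := (TT).nW_append ([0, 1, 0] : List (Fin 2)) ([1, 0] : List (Fin 2))
          have e2 := (TT).nW_append ([0, 1] : List (Fin 2)) ([0] : List (Fin 2))
          have e3 := (TT).nW_cons (0 : Fin 2) ([] : List (Fin 2))
          have e4 : (TT).nW ([] : List (Fin 2)) = 1 := (TT).nW_nil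
          refine e.trans ?_
          rw [hk', mul_inv_cancel_right]
          exact congrArg (· * _) (e2.trans (congrArg (N * ·) (e3.trans (by rw [e4, mul_one]))))
        have e2 : N * Ym * N⁻¹ * v2 = ((N * y1 * N⁻¹) * (N * hT * N⁻¹)) *
            (N * A0 * (N⁻¹ * k⁻¹)) * (k * ((N * y1 * N⁻¹) * v2)) := by
          rw [eY]; group
        rw [e2, ← hw5]
        refine (TT).cell_of_bruhat (Subgroup.mul_mem _ (Subgroup.mem_sup_left (hU hp1))
          (Subgroup.mem_sup_right ((Subgroup.mem_normalizer_iff.1 hNn _).1 hhT))) ?_ _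
        exact Subgroup.mul_mem _ (Subgroup.mem_sup_right hk)
          (Subgroup.mem_sup_left (Subgroup.mul_mem _ (hU hp1) hv2U))
      exact g01010 _ hsmall
    · set r' : GK := ((TT).y true (1 : Fin 2) 1)⁻¹ * r * (TT).y true (1 : Fin 2) 1 with hr'
      have hr'm : r' ∈ (TT).Rd (1 : Fin 2) :=
        (Subgroup.mem_normalizer_iff''.1 (y_mem_HH φ hφ true ((TT).par_one (1 : Fin 2))).2.1 _).1 hacl
      refine middleGood g (N * Ym * N⁻¹) r' (upS 1 * loS 1) good_swap hRn hr'm ?_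
      rw [← facts2.2.2.2.2, map_mul, ← hA1phi, ← y_mid_true_one φ hφ]
      convert hmain using 1
      rw [hr', hr]
      group
  intro g hg hne
  obtain ⟨w, hw, h2, hcell⟩ := long_cell φ hφ hg hne
  simp only [words, List.mem_cons, List.not_mem_nil, or_false] at hw
  rcases hw with rfl | rfl | rfl | rfl | rfl | rfl | rfl | rfl | rfl | rfl | rfl | rfl
  · simp at h2
  · simp at h2
  · simp at h2
  · exact g01 _ hcell
  · exact g10 _ hcell
  · exact g010 _ hcell
  · exact g101 _ hcell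
  · exact g0101 _ hcell
  · exact g1010 _ hcell
  · exact g01010 _ hcell
  · exact g10101 _ hcell
  · exact gtop _ hcell

end Cfsg.Agent.D4Square
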